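import Mathlib
import Groth.Agent.FibreDepth.FibIso
import Groth.Agent.GorLib.SupportChain
import Groth.Agent.S5152
import Groth.Agent.S5766

/-!
# Depth and dimension of a module finite over the base ring
-/

set_option autoImplicit false
set_option linter.style.haveILetI false

universe u

namespace Groth.Agent.EGA4Dim

open IsLocalRing

section Prelim

theorem finite_quotient_annihilator (A B : Type u) [CommRing A] [CommRing B] [IsNoetherianRing A] [Algebra A B]
    (M : Type u) [AddCommGroup M] [Module B M] [Module A M] [IsScalarTower A B M] [Module.Finite A M] :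
    Module.Finite A (B ⧸ Module.annihilator B M) := by
  let J := Module.annihilator B M
  obtain ⟨n, s, hs⟩ := Module.Finite.exists_fin (R := A) (M := M)
  let e : (B ⧸ J) →ₗ[A] (Fin n → M) := (Submodule.liftQ (J.restrictScalars A)
    (LinearMap.pi fun i => ((LinearMap.toSpanSingleton B M (s i)).restrictScalars A)) (fun b hb => by
      rw [LinearMap.mem_ker]
      funext i
      exact Module.mem_annihilator.1 hb (s i))) ∘ₗ (Submodule.Quotient.restrictScalarsEquiv A J).symm.toLinearMap
  refine Module.Finite.of_injective e ?_
  rw [injective_iff_map_eq_zero]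
  intro x hx
  obtain ⟨b, rfl⟩ := Ideal.Quotient.mk_surjective x
  refine Ideal.Quotient.eq_zero_iff_mem.2 (Module.mem_annihilator.2 fun m => ?_)
  obtain ⟨c, rfl⟩ := (Submodule.mem_span_range_iff_exists_fun A).1 (hs ▸ Submodule.mem_top : m ∈ Submodule.span A (Set.range s))
  rw [Finset.smul_sum]
  refine Finset.sum_eq_zero fun i _ => ?_
  rw [smul_comm, show b • s i = 0 from congrFun hx i, smul_zero]

end Prelim

section Local

variable (A B : Type u) [CommRing A] [CommRing B] [IsNoetherianRing A] [IsNoetherianRing B] [IsLocalRing A]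
  [Algebra A B] (M : Type u) [AddCommGroup M] [Module B M] [Module A M] [IsScalarTower A B M] [Module.Finite A M]

/-- Primes of the support over the closed point. -/
def closedFibreSupp : Set (PrimeSpectrum B) :=
  {q | q.asIdeal.comap (algebraMap A B) = maximalIdeal A ∧ q ∈ Module.support B M}

omit [IsNoetherianRing B] in
theorem comap_eq_of_isMaximal (q : Ideal B) [q.IsMaximal] (hq : Module.annihilator B M ≤ q) :
    q.comap (algebraMap A B) = maximalIdeal A := by
  haveI := finite_quotient_annihilator A B M
  let J := Module.annihilator B M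
  haveI : (q.map (Ideal.Quotient.mk J)).IsMaximal :=
    Ideal.IsMaximal.map_of_surjective_of_ker_le Ideal.Quotient.mk_surjective (by rwa [Ideal.mk_ker])
  have h := Ideal.isMaximal_comap_of_isIntegral_of_isMaximal (R := A) (q.map (Ideal.Quotient.mk J))
  rw [IsScalarTower.algebraMap_eq A B (B ⧸ J), ← Ideal.comap_comap, Ideal.Quotient.algebraMap_eq,
    Ideal.comap_map_of_surjective _ Ideal.Quotient.mk_surjective, ← RingHom.ker_eq_comap_bot, Ideal.mk_ker,
    sup_eq_left.2 hq] at h
  exact IsLocalRing.eq_maximalIdeal h

theorem depth_eq_iInf_closedFibre :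
    LocCoh.depth A M = ⨅ q ∈ closedFibreSupp A B M,
      LocCoh.depth (Localization.AtPrime q.asIdeal) (LocalizedModule q.asIdeal.primeCompl M) := by
  haveI : Module.Finite B M := Module.Finite.of_restrictScalars_finite A B M
  let J := (maximalIdeal A).map (algebraMap A B)
  have hres : ∀ K : Ideal A, ((K.map (algebraMap A B)) • (⊤ : Submodule B M)).restrictScalars A =
      K • (⊤ : Submodule A M) := fun K => by
    rw [Submodule.restrictScalars_map_smul_eq, Submodule.restrictScalars_top]
  have key : LocCoh.idealDepth (maximalIdeal A) M = LocCoh.idealDepth J M := by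
    have htop : maximalIdeal A • (⊤ : Submodule A M) = ⊤ ↔ J • (⊤ : Submodule B M) = ⊤ := by
      rw [← hres, Submodule.restrictScalars_eq_top_iff]
    by_cases h : maximalIdeal A • (⊤ : Submodule A M) = ⊤
    · rw [LocCoh.idealDepth, LocCoh.idealDepth, if_pos h, if_pos (htop.mp h)]
    obtain ⟨rs, hw, hm, x, hx, hx'⟩ := Groth.Agent.Depth.exists_isMaxSeq (M := M) h
    have hmax : Groth.Agent.Depth.IsMaxSeq J M (rs.map (algebraMap A B)) := by
      refine ⟨(RingTheory.Sequence.isWeaklyRegular_map_algebraMap_iff B M rs).mpr hw, fun r hr => ?_, x,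
        fun hmem => hx ?_, fun b hb => ?_⟩
      · obtain ⟨r, hr', rfl⟩ := List.mem_map.mp hr
        exact Ideal.mem_map_of_mem _ (hm r hr')
      · rw [← Ideal.map_ofList] at hmem
        rw [← hres]; exact hmem
      · rw [← Ideal.map_ofList]
        induction hb using Submodule.span_induction with
        | mem y hy =>
          obtain ⟨c, hc, rfl⟩ := hy
          rw [algebraMap_smul]
          have := hx' c hc
          rw [← hres] at this
          exact this
        | zero => rw [zero_smul]; exact zero_mem _
        | add u v _ _ hu hv => rw [add_smul]; exact add_mem hu hv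
        | smul c u _ hu => rw [smul_eq_mul, mul_smul]; exact Submodule.smul_mem _ c hu
    rw [Groth.Agent.Depth.idealDepth_eq_length h ⟨hw, hm, x, hx, hx'⟩,
      Groth.Agent.Depth.idealDepth_eq_length (fun h' => h (htop.mpr h')) hmax, List.length_map]
  rw [LocCoh.depth, key, Groth.Agent.S5152.result B J M]
  refine le_antisymm (le_iInf₂ fun q hq => iInf₂_le_of_le q ?_ le_rfl) (le_iInf₂ fun q hq => ?_)
  · exact Ideal.map_le_iff_le_comap.2 hq.1.ge
  · by_cases hs : q ∈ Module.support B M
    · exact iInf₂_le q ⟨((maximalIdeal.isMaximal A).eq_of_le (q.2.comap _).ne_top (Ideal.map_le_iff_le_comap.1 hq)).symm, hs⟩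
    · haveI : Subsingleton (LocalizedModule q.asIdeal.primeCompl M) := Module.notMem_support_iff.1 hs
      rw [CAlgBasics.depth_eq_top]
      exact le_top

theorem supportDim_eq_iSup_closedFibre :
    Module.supportDim A M = ⨆ q ∈ closedFibreSupp A B M,
      Module.supportDim (Localization.AtPrime q.asIdeal) (LocalizedModule q.asIdeal.primeCompl M) := by
  haveI : Module.Finite B M := Module.Finite.of_restrictScalars_finite A B M
  rw [Groth.Agent.S5766.result A B M]
  refine le_antisymm ?_ (iSup₂_le fun q hq => ?_)
  · refine iSup_le fun l => ?_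
    obtain ⟨Q, hQmax, hQle⟩ := Ideal.exists_le_maximal _ l.last.1.2.ne_top
    let q : PrimeSpectrum B := ⟨Q, hQmax.isPrime⟩
    have hle : ∀ i, (l i).1 ≤ q := fun i => le_trans (show (l i).1 ≤ l.last.1 from l.monotone (Fin.le_last i)) hQle
    have hann : Module.annihilator B M ≤ Q :=
      (Module.mem_support_iff_of_finite.1 l.last.2).trans hQle
    have hq : q ∈ closedFibreSupp A B M :=
      ⟨comap_eq_of_isMaximal A B M Q hann, Module.mem_support_iff_of_finite.2 hann⟩
    refine le_iSup₂_of_le q hq ?_
    let e := IsLocalization.AtPrime.primeSpectrumOrderIso (Localization.AtPrime q.asIdeal) q.asIdeal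
    have hmem : ∀ i, e.symm ⟨(l i).1, hle i⟩ ∈ Module.support (Localization.AtPrime q.asIdeal) (LocalizedModule q.asIdeal.primeCompl M) :=
      fun i => by
        rw [QGorLib.mem_support_localized_iff]
        have hx : PrimeSpectrum.comap (algebraMap B (Localization.AtPrime q.asIdeal)) (e.symm ⟨(l i).1, hle i⟩) = (l i).1 :=
          congrArg Subtype.val (e.apply_symm_apply ⟨(l i).1, hle i⟩)
        rw [hx]
        exact (l i).2
    exact le_iSup_of_le (LTSeries.mk l.length (fun i => ⟨e.symm ⟨(l i).1, hle i⟩, hmem i⟩)
      fun i j hij => e.symm.strictMono (show (l i).1 < (l j).1 from l.strictMono hij)) le_rfl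
  · haveI : Nonempty (Module.support B M) := ⟨⟨q, hq.2⟩⟩
    refine le_trans ?_ (GorLib.supportDim_localized_add_le M q.asIdeal (Module.mem_support_iff_of_finite.1 hq.2))
    haveI : Nontrivial (B ⧸ q.asIdeal) := Ideal.Quotient.nontrivial_iff.2 q.2.ne_top
    exact le_add_of_nonneg_right ringKrullDim_nonneg_of_nontrivial

end Local

section Loc

variable {B : Type u} [CommRing B] (M : Type u) [AddCommGroup M] [Module B M] (T : Submonoid B)

theorem fibIso_localization (q' : Ideal (Localization T)) [q'.IsPrime] (q : Ideal B) [q.IsPrime]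
    (hq : q'.comap (algebraMap B (Localization T)) = q) :
    FibreDepth.FibIso (Localization.AtPrime q) (LocalizedModule q.primeCompl M)
      (Localization.AtPrime q') (LocalizedModule q'.primeCompl (LocalizedModule T M)) := by
  let B' := Localization T
  subst hq
  let q := q'.comap (algebraMap B B')
  haveI : IsLocalization.AtPrime (Localization.AtPrime q') q :=
    IsLocalization.isLocalization_isLocalization_atPrime_isLocalization T _ q'
  let ψ := IsLocalization.algEquiv q.primeCompl (Localization.AtPrime q) (Localization.AtPrime q')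
  let g : M →ₗ[B] LocalizedModule q'.primeCompl (LocalizedModule T M) :=
    (LocalizedModule.mkLinearMap q'.primeCompl (LocalizedModule T M)).restrictScalars B ∘ₗ LocalizedModule.mkLinearMap T M
  haveI : IsLocalizedModule q.primeCompl g := (isLocalizedModule_iff_isBaseChange q.primeCompl (Localization.AtPrime q') g).2
    ((IsLocalizedModule.isBaseChange T B' (LocalizedModule.mkLinearMap T M)).comp
      (IsLocalizedModule.isBaseChange q'.primeCompl (Localization.AtPrime q')
        (LocalizedModule.mkLinearMap q'.primeCompl (LocalizedModule T M))))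
  let E := IsLocalizedModule.linearEquiv q.primeCompl (LocalizedModule.mkLinearMap q.primeCompl M) g
  refine ⟨ψ.toRingEquiv.toRingHom, ψ.surjective, E.toAddEquiv, fun z v => ?_⟩
  obtain ⟨a, ⟨t, ht⟩, rfl⟩ := IsLocalization.exists_mk'_eq q.primeCompl z
  show E _ = ψ _ • E v
  have hu : IsUnit (algebraMap B (Localization.AtPrime q') t) := IsLocalization.map_units _ (⟨t, ht⟩ : q.primeCompl)
  refine hu.smul_left_cancel.1 ?_
  rw [algebraMap_smul, algebraMap_smul, ← map_smul, ← algebraMap_smul (Localization.AtPrime q) t, ← mul_smul,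
    IsLocalization.mk'_spec'_mk, algebraMap_smul, map_smul, ← algebraMap_smul (Localization.AtPrime q') a,
    ← algebraMap_smul (Localization.AtPrime q') t, ← mul_smul, ← ψ.commutes t, ← map_mul, IsLocalization.mk'_spec'_mk,
    ψ.commutes]

end Loc

section AtPrime

variable (A B : Type u) [CommRing A] [CommRing B] [IsNoetherianRing A] [IsNoetherianRing B] [Algebra A B]
  (M : Type u) [AddCommGroup M] [Module B M] [Module A M] [IsScalarTower A B M] [Module.Finite A M]
  (p : Ideal A) [p.IsPrime]

/-- Primes of the support over `p`. -/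
def fibreSupp : Set (PrimeSpectrum B) :=
  {q | q.asIdeal.comap (algebraMap A B) = p ∧ q ∈ Module.support B M}

set_option maxHeartbeats 1000000 in
theorem supportDim_depth_atPrime :
    Module.supportDim (Localization.AtPrime p) (LocalizedModule p.primeCompl M) =
        ⨆ q ∈ fibreSupp A B M p,
          Module.supportDim (Localization.AtPrime q.asIdeal) (LocalizedModule q.asIdeal.primeCompl M) ∧
      LocCoh.depth (Localization.AtPrime p) (LocalizedModule p.primeCompl M) =
        ⨅ q ∈ fibreSupp A B M p,
          LocCoh.depth (Localization.AtPrime q.asIdeal) (LocalizedModule q.asIdeal.primeCompl M) := by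
  haveI : Module.Finite B M := Module.Finite.of_restrictScalars_finite A B M
  let S := p.primeCompl
  let Ap := Localization.AtPrime p
  let T := Algebra.algebraMapSubmonoid B S
  let B' := Localization T
  let M' := LocalizedModule T M
  letI : Algebra Ap B' := localizationAlgebra S B
  haveI : IsScalarTower A Ap B' := .of_algebraMap_eq fun a => by
    rw [IsScalarTower.algebraMap_apply A B B']
    exact (IsLocalization.map_eq (M := S) (T := T) (S := Ap) (Q := B') (Submonoid.le_comap_map S) a).symm
  letI : Module Ap M' := Module.compHom M' (algebraMap Ap B')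
  haveI : IsScalarTower Ap B' M' := .of_algebraMap_smul fun _ _ => rfl
  haveI : IsScalarTower A B' M' := IsScalarTower.of_algebraMap_smul fun a m => by
    rw [IsScalarTower.algebraMap_apply A B B', algebraMap_smul, algebraMap_smul]
  haveI : IsScalarTower A Ap M' := .of_algebraMap_smul fun a m => by
    show algebraMap Ap B' (algebraMap A Ap a) • m = a • m
    rw [← IsScalarTower.algebraMap_apply, algebraMap_smul]
  let f : M →ₗ[A] M' := (LocalizedModule.mkLinearMap T M).restrictScalars A
  haveI : IsLocalizedModule S f := IsLocalizedModule.restrictScalars _ _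
  haveI : Module.Finite Ap M' := Module.Finite.of_isLocalizedModule S f
  haveI : IsNoetherianRing B' := IsLocalization.isNoetherianRing T B' inferInstance
  haveI : IsNoetherianRing Ap := IsLocalization.isNoetherianRing S Ap inferInstance
  let e : LocalizedModule S M ≃ₗ[Ap] M' :=
    (IsLocalizedModule.linearEquiv S (LocalizedModule.mkLinearMap S M) f).extendScalarsOfIsLocalization S Ap
  have hlift : ∀ q ∈ fibreSupp A B M p, ∃ q' ∈ closedFibreSupp Ap B' M',
      q'.asIdeal.comap (algebraMap B B') = q.asIdeal := fun q hq => by
    have hd : Disjoint (T : Set B) q.asIdeal := Set.disjoint_left.2 fun x hx hxq => by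
      obtain ⟨a, ha, rfl⟩ := hx
      exact ha (hq.1 ▸ hxq : a ∈ p)
    haveI := IsLocalization.isPrime_of_isPrime_disjoint T B' q.asIdeal q.2 hd
    have hc : (q.asIdeal.map (algebraMap B B')).comap (algebraMap B B') = q.asIdeal :=
      IsLocalization.comap_map_of_isPrime_disjoint T B' q.2 hd
    refine ⟨⟨q.asIdeal.map (algebraMap B B'), this⟩, ⟨?_, ?_⟩, hc⟩
    · have h2 : ((q.asIdeal.map (algebraMap B B')).comap (algebraMap Ap B')).comap (algebraMap A Ap) = p := by
        rw [Ideal.comap_comap, ← IsScalarTower.algebraMap_eq, IsScalarTower.algebraMap_eq A B B', ← Ideal.comap_comap, hc]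
        exact hq.1
      rw [← IsLocalization.map_comap S Ap ((q.asIdeal.map (algebraMap B B')).comap (algebraMap Ap B')), ← Localization.AtPrime.map_eq_maximalIdeal]
      exact congrArg (Ideal.map (algebraMap A Ap)) h2
    · by_contra hs
      exact Module.notMem_support_iff.2 ((fibIso_localization M T _ q.asIdeal hc).subsingleton_iff.2
        (Module.notMem_support_iff.1 hs)) hq.2
  have hdown : ∀ q' ∈ closedFibreSupp Ap B' M',
      (⟨q'.asIdeal.comap (algebraMap B B'), inferInstance⟩ : PrimeSpectrum B) ∈ fibreSupp A B M p := fun q' hq' => by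
    refine ⟨?_, ?_⟩
    · show (q'.asIdeal.comap (algebraMap B B')).comap (algebraMap A B) = p
      rw [Ideal.comap_comap, ← IsScalarTower.algebraMap_eq, IsScalarTower.algebraMap_eq A Ap B', ← Ideal.comap_comap, hq'.1,
        show (maximalIdeal Ap).comap (algebraMap A Ap) = p from IsLocalization.AtPrime.comap_maximalIdeal Ap p]
    · by_contra hs
      exact Module.notMem_support_iff.2 ((fibIso_localization M T q'.asIdeal _ rfl).subsingleton_iff.1 (Module.notMem_support_iff.1 hs)) hq'.2
  have hdim : ∀ (q' : PrimeSpectrum B') (q : Ideal B) [q.IsPrime], q'.asIdeal.comap (algebraMap B B') = q →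
      Module.supportDim (Localization.AtPrime q'.asIdeal) (LocalizedModule q'.asIdeal.primeCompl M') =
      Module.supportDim (Localization.AtPrime q) (LocalizedModule q.primeCompl M) := fun q' q _ hc => by
    haveI : Module.Finite B' M' := Module.Finite.of_isLocalizedModule T (LocalizedModule.mkLinearMap T M)
    exact (fibIso_localization M T q'.asIdeal q hc).supportDim_eq.symm
  refine ⟨?_, ?_⟩
  · rw [Module.supportDim_eq_of_equiv e, supportDim_eq_iSup_closedFibre Ap B' M']
    refine le_antisymm (iSup₂_le fun q' hq' => le_iSup₂_of_le _ (hdown q' hq') (hdim q' _ rfl).le) (iSup₂_le fun q hq => ?_)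
    obtain ⟨q', hq', hc⟩ := hlift q hq
    refine le_iSup₂_of_le q' hq' ?_
    exact (hdim q' _ hc).ge
  · rw [Depth.depth_congr e, depth_eq_iInf_closedFibre Ap B' M']
    refine le_antisymm (le_iInf₂ fun q hq => ?_) (le_iInf₂ fun q' hq' => iInf₂_le_of_le _ (hdown q' hq') (fibIso_localization M T q'.asIdeal _ rfl).depth_eq.le)
    obtain ⟨q', hq', hc⟩ := hlift q hq
    refine iInf₂_le_of_le q' hq' ?_
    exact (fibIso_localization M T q'.asIdeal _ hc).depth_eq.ge

end AtPrime

end Groth.Agent.EGA4Dim
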