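import Mathlib
import Groth.Agent.FlatDepth.Fibres
import Groth.Agent.CMCat.Polynomial
import Groth.Agent.QGorLib.Depth

/-!
# Tensor products of field extensions are Cohen–Macaulay
-/

set_option autoImplicit false
set_option linter.style.haveILetI false

universe u

open TensorProduct

namespace Groth.Agent.EGA4Dim

theorem cm_localization_ring {R S : Type u} [CommRing R] [CommRing S] [Algebra R S] (M : Submonoid R) [IsLocalization M S]
    [LocCoh.IsCohenMacaulayRing R] : LocCoh.IsCohenMacaulayRing S := by
  haveI : IsNoetherianRing S := IsLocalization.isNoetherianRing M S inferInstance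
  refine { isCohenMacaulayLocalRing_localization := fun Q _ => ?_ }
  let P := Q.comap (algebraMap R S)
  haveI : IsLocalization.AtPrime (Localization.AtPrime Q) P :=
    IsLocalization.isLocalization_isLocalization_atPrime_isLocalization M _ Q
  haveI := LocCoh.IsCohenMacaulayRing.isCohenMacaulayLocalRing_localization (R := R) P
  exact CMCat.isCohenMacaulayLocalRing_of_ringEquiv
    (IsLocalization.algEquiv P.primeCompl (Localization.AtPrime P) (Localization.AtPrime Q)).toRingEquiv

theorem cm_of_isArtinianRing (R : Type u) [CommRing R] [IsArtinianRing R] : LocCoh.IsCohenMacaulayRing R where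
  isCohenMacaulayLocalRing_localization p _ := by
    haveI : IsArtinianRing (Localization.AtPrime p) :=
      IsArtinianRing.localization_artinian p.primeCompl (Localization.AtPrime p)
    refine { supportDim_eq_depth := ?_ }
    refine le_antisymm ?_ (QGorLib.depth_le_supportDim (R := Localization.AtPrime p) _)
    rw [Module.supportDim_self_eq_ringKrullDim]
    exact (Ring.krullDimLE_iff.1 (inferInstance : Ring.KrullDimLE 0 (Localization.AtPrime p))).trans
      (WithBot.coe_le_coe.2 zero_le)

theorem cm_baseChange_finite (R F E : Type u) [CommRing R] [Field F] [Field E] [Algebra F R] [Algebra F E]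
    [Module.Finite F E] [LocCoh.IsCohenMacaulayRing R] : LocCoh.IsCohenMacaulayRing (R ⊗[F] E) := by
  haveI : IsNoetherianRing (R ⊗[F] E) := IsNoetherianRing.of_finite R (R ⊗[F] E)
  refine FlatDepth.cm_ascend R (R ⊗[F] E) fun P _ => ?_
  haveI : IsArtinianRing (P.Fiber (R ⊗[F] E)) := IsArtinianRing.of_finite P.ResidueField _
  exact cm_of_isArtinianRing _

theorem cm_tensor_step (k F K L : Type u) [Field k] [Field F] [Field K] [CommRing L] [Algebra k F] [Algebra k K]
    [Algebra F K] [IsScalarTower k F K] [Algebra k L] [Module.Finite F K] [LocCoh.IsCohenMacaulayRing (F ⊗[k] L)] :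
    LocCoh.IsCohenMacaulayRing (K ⊗[k] L) := by
  haveI := cm_baseChange_finite (F ⊗[k] L) F K
  exact CMCat.isCohenMacaulayRing_of_ringEquiv ((Algebra.TensorProduct.comm F (F ⊗[k] L) K).toRingEquiv.trans
    (Algebra.TensorProduct.cancelBaseChange k F K K L).toRingEquiv)

theorem cm_tensor_fields (k K L : Type u) [Field k] [Field K] [Field L] [Algebra k K] [Algebra k L]
    [Algebra.EssFiniteType k K] : LocCoh.IsCohenMacaulayRing (K ⊗[k] L) := by
  classical
  obtain ⟨S, hS⟩ := IntermediateField.fg_top k K
  haveI : Algebra.IsAlgebraic (Algebra.adjoin k (S : Set K)) K := by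
    have : Algebra.IsAlgebraic (IntermediateField.adjoin k (S : Set K)) K := by
      rw [hS]
      exact ⟨fun x => isAlgebraic_algebraMap (⟨x, IntermediateField.mem_top⟩ : (⊤ : IntermediateField k K))⟩
    exact IntermediateField.isAlgebraic_adjoin_iff_top.1 this
  obtain ⟨t, hts, ht⟩ := exists_isTranscendenceBasis_subset (R := k) (A := K) (S : Set K)
  let ι : Type u := ↥t
  haveI : Finite ι := (S.finite_toSet.subset hts).to_subtype
  let F := IntermediateField.adjoin k (Set.range ((↑) : ι → K))
  haveI : Algebra.IsAlgebraic F K := ht.isAlgebraic_field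
  let P := MvPolynomial ι k
  let e := ht.1.aevalEquivField
  letI : Algebra P F := (e.toRingHom.comp (algebraMap P (FractionRing P))).toAlgebra
  haveI : IsScalarTower k P F := IsScalarTower.of_algebraMap_eq fun r => by
    show algebraMap k F r = e (algebraMap P (FractionRing P) (algebraMap k P r))
    rw [← IsScalarTower.algebraMap_apply k P (FractionRing P), e.commutes]
  haveI : IsFractionRing P F := IsLocalization.isLocalization_of_algEquiv _
    (AlgEquiv.ofRingEquiv (f := e.toRingEquiv) fun _ => rfl : FractionRing P ≃ₐ[P] F)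
  haveI : Algebra.EssFiniteType F K := Algebra.EssFiniteType.of_comp k F K
  haveI : Module.Finite F K := Algebra.finite_of_essFiniteType_of_isAlgebraic
  obtain ⟨n, ⟨en⟩⟩ := Finite.exists_equiv_fin ι
  haveI := FlatDepth.cm_of_regular L
  haveI := CMCat.isCohenMacaulayRing_mvPolynomial (R := L) n
  haveI : LocCoh.IsCohenMacaulayRing (P ⊗[k] L) := CMCat.isCohenMacaulayRing_of_ringEquiv
    (((MvPolynomial.renameEquiv L en).symm.toRingEquiv.trans
      (MvPolynomial.algebraTensorAlgEquiv (σ := ι) k L).toRingEquiv.symm).trans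
      (Algebra.TensorProduct.comm k L P).toRingEquiv)
  letI : Algebra (P ⊗[k] L) (F ⊗[P] (P ⊗[k] L)) := Algebra.TensorProduct.rightAlgebra
  haveI : IsLocalization (Algebra.algebraMapSubmonoid (P ⊗[k] L) (nonZeroDivisors P)) (F ⊗[P] (P ⊗[k] L)) :=
    IsLocalization.tensorRight F (nonZeroDivisors P)
  haveI : LocCoh.IsCohenMacaulayRing (F ⊗[P] (P ⊗[k] L)) :=
    cm_localization_ring (Algebra.algebraMapSubmonoid (P ⊗[k] L) (nonZeroDivisors P))
  haveI : LocCoh.IsCohenMacaulayRing (F ⊗[k] L) :=
    CMCat.isCohenMacaulayRing_of_ringEquiv (Algebra.TensorProduct.cancelBaseChange k P F F L).toRingEquiv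
  exact cm_tensor_step k F K L

end Groth.Agent.EGA4Dim

namespace Groth.Agent.EGA4Dim

theorem hasSk_of_cm (n : ℕ) (R : Type u) [CommRing R] [LocCoh.IsCohenMacaulayRing R] : LocCoh.HasSk n R R := by
  rw [FlatDepth.hasSk_iff]
  intro p _
  haveI := LocCoh.IsCohenMacaulayRing.isCohenMacaulayLocalRing_localization (R := R) p
  refine ⟨inferInstance, ?_⟩
  have h := LocCoh.IsCohenMacaulayLocalRing.supportDim_eq_depth (R := Localization.AtPrime p)
  rw [Module.supportDim_self_eq_ringKrullDim] at h
  rw [← h]
  exact min_le_right _ _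

theorem cm_tensor_fields' (k K L : Type u) [Field k] [Field K] [Field L] [Algebra k K] [Algebra k L]
    (h : Algebra.EssFiniteType k K ∨ Algebra.EssFiniteType k L) : LocCoh.IsCohenMacaulayRing (K ⊗[k] L) := by
  rcases h with h | h
  · exact cm_tensor_fields k K L
  · haveI := cm_tensor_fields k L K
    exact CMCat.isCohenMacaulayRing_of_ringEquiv (Algebra.TensorProduct.comm k L K).toRingEquiv

theorem hasSk_field_tensor (n : ℕ) (k K T : Type u) [Field k] [Field K] [CommRing T] [Algebra k K] [Algebra k T]
    [IsNoetherianRing T] [IsNoetherianRing (T ⊗[k] K)]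
    (hess : ∀ (q : Ideal T) [q.IsPrime], Algebra.EssFiniteType k q.ResidueField ∨ Algebra.EssFiniteType k K)
    (hT : LocCoh.HasSk n T T) : LocCoh.HasSk n (T ⊗[k] K) (T ⊗[k] K) :=
  FlatDepth.hasSk_ascend n T (T ⊗[k] K) hT fun q _ => by
    haveI := cm_tensor_fields' k q.ResidueField K (hess q)
    haveI : LocCoh.IsCohenMacaulayRing (q.Fiber (T ⊗[k] K)) := CMCat.isCohenMacaulayRing_of_ringEquiv
      (Algebra.TensorProduct.cancelBaseChange k T q.ResidueField q.ResidueField K).toRingEquiv.symm
    exact hasSk_of_cm n _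

theorem hasSk_tensor (n : ℕ) (k S T : Type u) [Field k] [CommRing S] [CommRing T] [Algebra k S] [Algebra k T]
    [IsNoetherianRing S] [IsNoetherianRing T] [IsNoetherianRing (S ⊗[k] T)] [Algebra.FiniteType k S]
    (hS : LocCoh.HasSk n S S) (hT : LocCoh.HasSk n T T) : LocCoh.HasSk n (S ⊗[k] T) (S ⊗[k] T) :=
  FlatDepth.hasSk_ascend n S (S ⊗[k] T) hS fun p _ => by
    let e : p.Fiber (S ⊗[k] T) ≃+* T ⊗[k] p.ResidueField :=
      (Algebra.TensorProduct.cancelBaseChange k S p.ResidueField p.ResidueField T).toRingEquiv.trans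
        (Algebra.TensorProduct.comm k p.ResidueField T).toRingEquiv
    haveI := FlatDepth.isNoetherianRing_fiber S (S ⊗[k] T) p
    haveI : IsNoetherianRing (T ⊗[k] p.ResidueField) := isNoetherianRing_of_ringEquiv _ e
    exact FlatDepth.hasSk_of_ringEquiv e.symm
      (hasSk_field_tensor n k p.ResidueField T (fun q _ => Or.inr (Algebra.EssFiniteType.comp k S p.ResidueField)) hT)

end Groth.Agent.EGA4Dim
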