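import Mathlib
import Groth.Prelude.Def_EGA4b
import Groth.Agent.FlatTensorDimLib.Basic
import Groth.Agent.QGorLib.FlatDepth
import Groth.Agent.EGA4Dim.FiniteRestrict

/-!
# Serre conditions of tensor products with flat modules
-/

set_option autoImplicit false
set_option linter.style.haveILetI false

universe u

namespace Groth.Agent.EGA4Dim

open IsLocalRing TensorProduct

/-- The inequality of `(S_k)` at a point. -/
def SkIneq (k : ℕ) (R : Type u) [CommRing R] (M : Type u) [AddCommGroup M] [Module R M] [IsLocalRing R] : Prop :=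
  min (k : WithBot ℕ∞) (Module.supportDim R M) ≤ ((LocCoh.depth R M : ℕ∞) : WithBot ℕ∞)

theorem skIneq_of_fibIso {k : ℕ} {R O N N' : Type u} [CommRing R] [CommRing O] [AddCommGroup N] [Module R N]
    [AddCommGroup N'] [Module O N'] [IsLocalRing R] [IsLocalRing O] [Module.Finite O N']
    (h : FibreDepth.FibIso R N O N') : SkIneq k R N ↔ SkIneq k O N' := by
  rw [SkIneq, SkIneq, h.depth_eq, h.supportDim_eq]

theorem skIneq_of_hasSk {k : ℕ} {T N : Type u} [CommRing T] [IsLocalRing T] [AddCommGroup N] [Module T N] [Module.Finite T N]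
    (h : LocCoh.HasSk k T N) : SkIneq k T N := by
  let m := maximalIdeal T
  haveI : Module.Finite (Localization.AtPrime m) (LocalizedModule m.primeCompl N) :=
    Module.Finite.of_isLocalizedModule m.primeCompl (LocalizedModule.mkLinearMap m.primeCompl N)
  have hu : ∀ s : m.primeCompl, IsUnit (s : T) := fun s => notMem_maximalIdeal.1 s.2
  haveI : IsLocalization m.primeCompl T := IsLocalization.at_units fun s hs => hu ⟨s, hs⟩
  haveI : IsLocalizedModule m.primeCompl (LinearMap.id : N →ₗ[T] N) :=
    (isLocalizedModule_iff_isBaseChange m.primeCompl T LinearMap.id).2 (IsBaseChange.ofEquiv (LinearEquiv.refl T N))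
  let e := IsLocalizedModule.linearEquiv m.primeCompl (LinearMap.id : N →ₗ[T] N) (LocalizedModule.mkLinearMap m.primeCompl N)
  refine (skIneq_of_fibIso ⟨algebraMap T (Localization.AtPrime m),
    ?_,
    e.toAddEquiv, fun r n => ?_⟩).2 (h m)
  · intro z
    obtain ⟨t, ht⟩ := (IsLocalization.algEquiv m.primeCompl T (Localization.AtPrime m)).surjective z
    exact ⟨t, ((IsLocalization.algEquiv m.primeCompl T (Localization.AtPrime m)).commutes t).symm.trans ht⟩
  · show e (r • n) = algebraMap T (Localization.AtPrime m) r • e n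
    rw [map_smul, algebraMap_smul]

theorem hasSkAt_iff {k : ℕ} {R M : Type u} [CommRing R] [AddCommGroup M] [Module R M] [Module.Finite R M] (q : Ideal R) [q.IsPrime] :
    EGA4.HasSkAt k R M q ↔ ∀ (P : Ideal R) [P.IsPrime], P ≤ q →
      SkIneq k (Localization.AtPrime P) (LocalizedModule P.primeCompl M) := by
  let L := Localization.AtPrime q
  haveI : Module.Finite L (LocalizedModule q.primeCompl M) :=
    Module.Finite.of_isLocalizedModule q.primeCompl (LocalizedModule.mkLinearMap q.primeCompl M)
  constructor
  · intro h P _ hPq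
    have hd : Disjoint (q.primeCompl : Set R) P := Set.disjoint_left.2 fun x hx hxp => hx (hPq hxp)
    haveI := IsLocalization.isPrime_of_isPrime_disjoint q.primeCompl L P inferInstance hd
    haveI : Module.Finite (Localization.AtPrime (P.map (algebraMap R L))) (LocalizedModule (P.map (algebraMap R L)).primeCompl (LocalizedModule q.primeCompl M)) :=
      Module.Finite.of_isLocalizedModule (P.map (algebraMap R L)).primeCompl (LocalizedModule.mkLinearMap _ _)
    exact (skIneq_of_fibIso (fibIso_localization M q.primeCompl (P.map (algebraMap R L)) P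
      (IsLocalization.comap_map_of_isPrime_disjoint q.primeCompl L inferInstance hd))).2 (h (P.map (algebraMap R L)))
  · intro h Q _
    haveI : Module.Finite (Localization.AtPrime Q) (LocalizedModule Q.primeCompl (LocalizedModule q.primeCompl M)) :=
      Module.Finite.of_isLocalizedModule Q.primeCompl (LocalizedModule.mkLinearMap _ _)
    refine (skIneq_of_fibIso (fibIso_localization M q.primeCompl Q _ rfl)).1 (h (Q.comap (algebraMap R L)) fun x hx => ?_)
    by_contra hxp
    exact Set.disjoint_left.1 ((IsLocalization.isPrime_iff_isPrime_disjoint q.primeCompl L Q).1 inferInstance).2 hxp hx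

section

variable {A B : Type u} [CommRing A] [CommRing B] [IsNoetherianRing A] [IsNoetherianRing B] [Algebra A B]
  {E : Type u} [AddCommGroup E] [Module A E] [Module.Finite A E]
  {F : Type u} [AddCommGroup F] [Module B F] [Module A F] [IsScalarTower A B F] [Module.Finite B F] [Module.Flat A F]

set_option maxHeartbeats 1000000 in
theorem depth_supportDim_localized_tensor (P : Ideal B) [P.IsPrime] [Nontrivial (LocalizedModule P.primeCompl F)]
    [Nontrivial (LocalizedModule (P.comap (algebraMap A B)).primeCompl E)] :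
    ∃ a b c d : ℕ,
      Module.supportDim (Localization.AtPrime (P.comap (algebraMap A B))) (LocalizedModule (P.comap (algebraMap A B)).primeCompl E) = a ∧
      LocCoh.depth (Localization.AtPrime (P.comap (algebraMap A B))) (LocalizedModule (P.comap (algebraMap A B)).primeCompl E) = b ∧
      Module.supportDim (EGA4.FibLocRing A B P) (EGA4.FibLocMod A B P F) = c ∧
      (∃ _ : IsLocalRing (EGA4.FibLocRing A B P), LocCoh.depth (EGA4.FibLocRing A B P) (EGA4.FibLocMod A B P F) = d) ∧
      d ≤ c ∧
      Module.supportDim (Localization.AtPrime P) (LocalizedModule P.primeCompl (F ⊗[A] E)) = (a + c : ℕ) ∧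
      LocCoh.depth (Localization.AtPrime P) (LocalizedModule P.primeCompl (F ⊗[A] E)) = (b + d : ℕ) := by
  let p := P.comap (algebraMap A B)
  let R := Localization.AtPrime p
  let S := Localization.AtPrime P
  let N := LocalizedModule P.primeCompl F
  let Ep := LocalizedModule p.primeCompl E
  haveI : IsNoetherianRing R := IsLocalization.isNoetherianRing p.primeCompl R inferInstance
  haveI : IsNoetherianRing S := IsLocalization.isNoetherianRing P.primeCompl S inferInstance
  let φ : R →+* S := Localization.localRingHom p P (algebraMap A B) rfl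
  letI : Algebra R S := φ.toAlgebra
  haveI : IsLocalHom (algebraMap R S) := Localization.isLocalHom_localRingHom p P (algebraMap A B) rfl
  haveI : IsScalarTower A R S := IsScalarTower.of_algebraMap_eq fun a => by
    show algebraMap A S a = φ (algebraMap A R a)
    rw [Localization.localRingHom_to_map, ← IsScalarTower.algebraMap_apply]
  letI : Module R N := Module.compHom N φ
  haveI : IsScalarTower R S N := IsScalarTower.of_algebraMap_smul fun _ _ => rfl
  haveI : IsScalarTower A R N := IsScalarTower.of_algebraMap_smul fun a n => by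
    show φ (algebraMap A R a) • n = a • n
    rw [Localization.localRingHom_to_map, algebraMap_smul, algebraMap_smul]
  haveI : Module.Finite S N := Module.Finite.of_isLocalizedModule P.primeCompl (LocalizedModule.mkLinearMap P.primeCompl F)
  haveI : Module.Finite R Ep := Module.Finite.of_isLocalizedModule p.primeCompl (LocalizedModule.mkLinearMap p.primeCompl E)
  haveI : Nontrivial Ep := ‹Nontrivial (LocalizedModule (P.comap (algebraMap A B)).primeCompl E)›
  haveI : Module.Flat R N := (Module.flat_iff_of_isLocalization R p.primeCompl N).mpr (QGorLib.flat_localizedModule F P)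
  let g : F ⊗[A] E →ₗ[B] N ⊗[A] E := AlgebraTensorModule.rTensor A E (LocalizedModule.mkLinearMap P.primeCompl F)
  let e₁ : LocalizedModule P.primeCompl (F ⊗[A] E) ≃ₗ[S] N ⊗[A] E :=
    (IsLocalizedModule.linearEquiv P.primeCompl (LocalizedModule.mkLinearMap P.primeCompl (F ⊗[A] E)) g).extendScalarsOfIsLocalization P.primeCompl S
  let e₂ : N ⊗[R] Ep ≃ₗ[S] N ⊗[A] E :=
    (AlgebraTensorModule.congr (LinearEquiv.refl S N)
      (IsLocalizedModule.isBaseChange p.primeCompl R (LocalizedModule.mkLinearMap p.primeCompl E)).equiv.symm).trans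
      (AlgebraTensorModule.cancelBaseChange A R S N E)
  have hI : p.map (algebraMap A S) = (maximalIdeal R).map (algebraMap R S) := by
    rw [IsScalarTower.algebraMap_eq A R S, ← Ideal.map_map, Localization.AtPrime.map_eq_maximalIdeal]
  let eF : FlatDepth.Fib R S N ≃ₗ[S] EGA4.FibLocMod A B P F := Submodule.quotEquivOfEq _ _ (by rw [← hI])
  haveI : Nontrivial (EGA4.FibLocMod A B P F) :=
    haveI := FlatDepth.nontrivial_fib (A := R) (B := S) (N := N)
    eF.toEquiv.symm.nontrivial
  haveI : Nontrivial (EGA4.FibLocRing A B P) := Ideal.Quotient.nontrivial_iff.2 fun ht =>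
    (maximalIdeal.isMaximal S).ne_top (top_le_iff.1 (ht ▸ hI ▸ IsLocalRing.map_maximalIdeal_le (algebraMap R S)))
  haveI : IsLocalRing (EGA4.FibLocRing A B P) := IsLocalRing.of_surjective' (Ideal.Quotient.mk _) Ideal.Quotient.mk_surjective
  have hsurj : Function.Surjective (algebraMap S (EGA4.FibLocRing A B P)) := Ideal.Quotient.mk_surjective
  haveI : Module.Finite (EGA4.FibLocRing A B P) (EGA4.FibLocMod A B P F) := Module.Finite.of_restrictScalars_finite S _ _
  obtain ⟨a, ha⟩ := CMSeqLib.exists_supportDim_eq (A := R) Ep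
  obtain ⟨b, hb⟩ := FlatDepth.exists_depth_eq (R := R) (M := Ep)
  obtain ⟨c, hc⟩ := CMSeqLib.exists_supportDim_eq (A := S) (EGA4.FibLocMod A B P F)
  obtain ⟨d, hd⟩ := FlatDepth.exists_depth_eq (R := S) (M := EGA4.FibLocMod A B P F)
  have hdc := QGorLib.depth_le_supportDim (R := S) (EGA4.FibLocMod A B P F)
  rw [hc, hd] at hdc
  refine ⟨a, b, c, d, ha, hb, ?_, ⟨inferInstance, ?_⟩, by exact_mod_cast hdc, ?_, ?_⟩
  · rw [← FibreDepth.supportDim_of_surjective (O := S) hsurj]; exact hc
  · rw [← FibreDepth.depth_of_surjective (O := S) hsurj]; exact hd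
  · rw [Module.supportDim_eq_of_equiv (e₁.trans e₂.symm), FlatTensorDimLib.supportDim_tensor_eq, ha,
      Module.supportDim_eq_of_equiv eF, hc]
    exact (Nat.cast_add a c).symm
  · rw [Depth.depth_congr (e₁.trans e₂.symm), FlatDepth.depth_tensor, hb, Depth.depth_congr eF, hd]
    exact (Nat.cast_add b d).symm

theorem hasSkAt_tensor (k : ℕ)
    (hfib : ∀ (q : Ideal B) [q.IsPrime], LocCoh.HasSk k (EGA4.FibLocRing A B q) (EGA4.FibLocMod A B q F))
    (q : Ideal B) [q.IsPrime] (hE : EGA4.HasSkAt k A E (q.comap (algebraMap A B))) :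
    EGA4.HasSkAt k B (F ⊗[A] E) q := by
  haveI : Module.Finite B (F ⊗[A] E) := FlatDepth.finite_tensor E
  rw [hasSkAt_iff] at hE ⊢
  intro P _ hPq
  rcases subsingleton_or_nontrivial (LocalizedModule P.primeCompl (F ⊗[A] E)) with hs | hn
  · rw [SkIneq, Module.supportDim_eq_bot_of_subsingleton, min_eq_right bot_le]
    exact bot_le
  obtain ⟨h1, h2⟩ := (FlatTensorDimLib.mem_support_iff E ⟨P, inferInstance⟩).1 hn
  haveI : Nontrivial (LocalizedModule P.primeCompl F) := h1
  haveI : Nontrivial (LocalizedModule (P.comap (algebraMap A B)).primeCompl E) := h2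
  obtain ⟨a, b, c, d, ha, hb, hc, ⟨hloc, hd⟩, -, hdim, hdep⟩ := depth_supportDim_localized_tensor (A := A) (E := E) (F := F) P
  have hE' := hE (P.comap (algebraMap A B)) (Ideal.comap_mono hPq)
  haveI := hloc
  haveI : Module.Finite (EGA4.FibLocRing A B P) (EGA4.FibLocMod A B P F) :=
    haveI : Module.Finite (Localization.AtPrime P) (LocalizedModule P.primeCompl F) :=
      Module.Finite.of_isLocalizedModule P.primeCompl (LocalizedModule.mkLinearMap P.primeCompl F)
    Module.Finite.of_restrictScalars_finite (Localization.AtPrime P) _ _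
  have hF' := skIneq_of_hasSk (hfib P)
  unfold SkIneq at hE' hF' ⊢
  rw [ha, hb] at hE'
  rw [hc, hd] at hF'
  rw [hdim, hdep]
  have hmin : ∀ x y : ℕ, min (x : WithBot ℕ∞) (y : WithBot ℕ∞) = ((min x y : ℕ) : WithBot ℕ∞) :=
    fun x y => (Nat.mono_cast.map_min (a := x) (b := y)).symm
  rw [hmin] at hE' hF' ⊢
  have e1 : min k a ≤ b := by exact_mod_cast hE'
  have e2 : min k c ≤ d := by exact_mod_cast hF'
  exact_mod_cast (by omega : min k (a + c) ≤ b + d)

theorem hasSkAt_base (k : ℕ) (q : PrimeSpectrum B) (hq : q ∈ Module.support B F)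
    (h : EGA4.HasSkAt k B (F ⊗[A] E) q.asIdeal) : EGA4.HasSkAt k A E (q.asIdeal.comap (algebraMap A B)) := by
  haveI : Module.Finite B (F ⊗[A] E) := FlatDepth.finite_tensor E
  rw [hasSkAt_iff] at h ⊢
  intro p _ hp
  rcases subsingleton_or_nontrivial (LocalizedModule p.primeCompl E) with hs | hn
  · rw [SkIneq, Module.supportDim_eq_bot_of_subsingleton, min_eq_right bot_le]
    exact bot_le
  obtain ⟨Q, hQq, hQN, hQp⟩ := FlatTensorDimLib.exists_le_mem_support (N := F) q hq p hp
  let J := Module.annihilator B F ⊔ p.map (algebraMap A B)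
  obtain ⟨P, hPmin, hPQ⟩ := Ideal.exists_minimalPrimes_le (show J ≤ Q.asIdeal from
    sup_le (Module.mem_support_iff_of_finite.1 hQN) (Ideal.map_le_iff_le_comap.2 hQp.ge))
  haveI := hPmin.isPrime
  have hPp : P.comap (algebraMap A B) = p :=
    le_antisymm ((Ideal.comap_mono hPQ).trans hQp.le) (Ideal.map_le_iff_le_comap.1 (le_sup_right.trans hPmin.1.2))
  haveI : Nontrivial (LocalizedModule P.primeCompl F) :=
    (Module.mem_support_iff_of_finite (p := (⟨P, inferInstance⟩ : PrimeSpectrum B))).2 (le_sup_left.trans hPmin.1.2)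
  subst hPp
  obtain ⟨a, b, c, d, ha, hb, hc, -, hdc, hdim, hdep⟩ := depth_supportDim_localized_tensor (A := A) (E := E) (F := F) P
  have hc0 : c = 0 := by
    let I : Ideal (Localization.AtPrime P) := (P.comap (algebraMap A B)).map (algebraMap A (Localization.AtPrime P))
    haveI : Module.Finite (Localization.AtPrime P) (LocalizedModule P.primeCompl F) :=
      Module.Finite.of_isLocalizedModule P.primeCompl (LocalizedModule.mkLinearMap P.primeCompl F)
    haveI : Module.Finite (EGA4.FibLocRing A B P) (EGA4.FibLocMod A B P F) :=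
      Module.Finite.of_restrictScalars_finite (Localization.AtPrime P) _ _
    rw [← FibreDepth.supportDim_of_surjective (O := Localization.AtPrime P) (R := EGA4.FibLocRing A B P) Ideal.Quotient.mk_surjective] at hc
    haveI : Subsingleton (Module.support (Localization.AtPrime P) (EGA4.FibLocMod A B P F)) := ⟨fun x y => by
      suffices hh : ∀ z : Module.support (Localization.AtPrime P) (EGA4.FibLocMod A B P F), z.1.asIdeal = maximalIdeal (Localization.AtPrime P) from
        Subtype.ext (PrimeSpectrum.ext ((hh x).trans (hh y).symm))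
      intro z
      obtain ⟨hz1, hz2⟩ := (FlatTensorDimLib.mem_support_quot _ _).1 z.2
      rw [QGorLib.mem_support_localized_iff, Module.mem_support_iff_of_finite] at hz1
      have hz3 : (P.comap (algebraMap A B)).map (algebraMap A B) ≤ z.1.asIdeal.comap (algebraMap B (Localization.AtPrime P)) := by
        rw [← Ideal.map_le_iff_le_comap, Ideal.map_map, ← IsScalarTower.algebraMap_eq]
        exact hz2
      have hz4 : z.1.asIdeal.comap (algebraMap B (Localization.AtPrime P)) ≤ P := fun x hx => by
        by_contra hxP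
        exact Set.disjoint_left.1 ((IsLocalization.isPrime_iff_isPrime_disjoint P.primeCompl (Localization.AtPrime P) z.1.asIdeal).1 z.1.2).2 hxP hx
      have hz5 := le_antisymm hz4 (hPmin.2 ⟨z.1.2.comap _, sup_le hz1 hz3⟩ hz4)
      rw [← IsLocalization.map_comap P.primeCompl (Localization.AtPrime P) z.1.asIdeal,
        ← Localization.AtPrime.map_eq_maximalIdeal]
      exact congrArg (Ideal.map (algebraMap B (Localization.AtPrime P))) hz5⟩
    have h0 : Module.supportDim (Localization.AtPrime P) (EGA4.FibLocMod A B P F) ≤ 0 := Order.krullDim_nonpos_of_subsingleton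
    rw [hc] at h0
    exact_mod_cast Nat.le_zero.1 (by exact_mod_cast h0)
  have h' := h P (hPQ.trans hQq)
  unfold SkIneq at h' ⊢
  rw [hdim, hdep, hc0, show d = 0 by omega, add_zero, add_zero] at h'
  rw [ha, hb]
  exact h'

end

end Groth.Agent.EGA4Dim
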