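import Mathlib
import Groth.Prelude.Def_EGA4b
import Groth.Prelude.Def_AssocGrMod

/-!
# Normal flatness and flatness of the associated graded module
-/

set_option autoImplicit false
set_option linter.style.haveILetI false

universe u

namespace Groth.Agent.EGA4Dim

open AssocGr DirectSum

variable {A : Type u} [CommRing A] (I : Ideal A) (M : Type u) [AddCommGroup M] [Module A M]

abbrev pw (n : ℕ) : Submodule A M := I ^ n • ⊤

abbrev piece (n : ℕ) : Type u := ↥(pw I M n) ⧸ (I • (⊤ : Submodule A ↥(pw I M n)))

theorem powFilt_N (n : ℕ) : (Rees.powFilt I M).N n = pw I M n := by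
  simp [Rees.powFilt, pw]

theorem mem_smul_top_piece (n : ℕ) (x : pw I M n) :
    x ∈ (I • (⊤ : Submodule A ↥(pw I M n))) ↔ (x : M) ∈ (Rees.powFilt I M).N (n + 1) := by
  rw [Submodule.mem_smul_top_iff, powFilt_N]
  simp only [pw, pow_succ', mul_smul]

theorem isNormallyFlat_iff_flat_grMod :
    EGA4.IsNormallyFlat I M ↔ Module.Flat (A ⧸ I) (GrMod (Rees.powFilt I M)) := by
  classical
  let F := Rees.powFilt I M
  let G : ℕ → Type u := piece I M
  let inc : ∀ n, pw I M n →ₗ[A] GrMod F := fun n =>
    { toFun := fun x => mkGM F (monomM F n ⟨x, (powFilt_N I M n).symm ▸ x.2⟩)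
      map_add' := fun x y => by
        rw [← map_add]
        refine congrArg (mkGM F) (ReesM.ext F fun m => ?_)
        rw [ReesM.coeff_add, ReesM.coeff_monomM, ReesM.coeff_monomM, ReesM.coeff_monomM]
        split_ifs <;> simp
      map_smul' := fun a x => by
        rw [RingHom.id_apply, ← map_smul]
        refine congrArg (mkGM F) (ReesM.ext F fun m => ?_)
        rw [ReesM.coeff_smul_base, ReesM.coeff_monomM, ReesM.coeff_monomM]
        split_ifs <;> simp }
  let incq : ∀ n, G n →ₗ[A] GrMod F := fun n => Submodule.liftQ _ (inc n) fun x hx => by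
    rw [LinearMap.mem_ker]
    show mkGM F _ = 0
    rw [mkGM_eq_zero_iff]
    intro m
    rw [ReesM.coeff_monomM]
    split_ifs with h
    · subst h; exact (mem_smul_top_piece I M n x).1 hx
    · exact Submodule.zero_mem _
  let Φ : (⨁ n, G n) →ₗ[A] GrMod F := DirectSum.toModule A ℕ _ incq
  let proj : ∀ n, ReesM F →ₗ[A] G n := fun n =>
    (Submodule.mkQ _).comp
      { toFun := fun y => (⟨ReesM.coeff F y n, powFilt_N I M n ▸ ReesM.coeff_mem F y n⟩ : pw I M n)
        map_add' := fun x y => Subtype.ext (ReesM.coeff_add F x y n)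
        map_smul' := fun a y => Subtype.ext (by
          rw [RingHom.id_apply, Submodule.coe_smul]
          exact ReesM.coeff_smul_base F a y n) }
  have hproj : ∀ (n : ℕ) (y : ReesM F), mkGM F y = 0 → proj n y = 0 := fun n y hy => by
    show Submodule.Quotient.mk _ = 0
    rw [Submodule.Quotient.mk_eq_zero, mem_smul_top_piece]
    exact (mem_succMod_iff F y).1 ((mkGM_eq_zero_iff F y).1 hy) n
  have hpi : ∀ (n : ℕ) (z : ⨁ n, G n) (y : ReesM F), Φ z = mkGM F y → proj n y = z n := by
    intro n z
    induction z using DirectSum.induction_on with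
    | zero =>
      intro y hy
      rw [map_zero] at hy
      exact hproj n y hy.symm
    | of i x =>
      intro y hy
      obtain ⟨x, rfl⟩ := Submodule.Quotient.mk_surjective _ x
      let y₀ := monomM F i ⟨x, (powFilt_N I M i).symm ▸ x.2⟩
      have hy0 : Φ (DirectSum.of G i (Submodule.Quotient.mk x)) = mkGM F y₀ :=
        DirectSum.toModule_lof A i (φ := incq) (Submodule.Quotient.mk x)
      have h1 : proj n y = proj n y₀ := by
        rw [← sub_eq_zero, ← map_sub]
        exact hproj n _ (by rw [map_sub, ← hy, ← hy0, sub_self])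
      rw [h1]
      by_cases h : i = n
      · subst h
        rw [DirectSum.of_eq_same]
        show Submodule.Quotient.mk _ = Submodule.Quotient.mk x
        refine congrArg Submodule.Quotient.mk (Subtype.ext ?_)
        show ReesM.coeff F y₀ i = (x : M)
        rw [ReesM.coeff_monomM, if_pos rfl]
      · rw [DirectSum.of_eq_of_ne _ _ _ (Ne.symm h)]
        show Submodule.Quotient.mk _ = 0
        rw [Submodule.Quotient.mk_eq_zero, mem_smul_top_piece]
        show ReesM.coeff F y₀ n ∈ _
        rw [ReesM.coeff_monomM, if_neg h]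
        exact Submodule.zero_mem _
    | add a b ha hb =>
      intro y hy
      obtain ⟨ya, hya⟩ := mkGM_surjective F (Φ a)
      obtain ⟨yb, hyb⟩ := mkGM_surjective F (Φ b)
      rw [map_add, ← hya, ← hyb] at hy
      have h1 : proj n y = proj n (ya + yb) := by
        rw [← sub_eq_zero, ← map_sub]
        exact hproj n _ (by rw [map_sub, map_add, hy, sub_self])
      rw [h1, map_add, ha ya hya.symm, hb yb hyb.symm, DirectSum.add_apply]
  have hinj : Function.Injective Φ := by
    rw [injective_iff_map_eq_zero]
    intro z hz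
    refine DFinsupp.ext fun n => ?_
    rw [← hpi n z 0 (hz.trans (map_zero _).symm), map_zero]
    rfl
  have hsurj : Function.Surjective Φ := by
    intro w
    obtain ⟨y, rfl⟩ := mkGM_surjective F w
    rw [← sum_termM F y, map_sum]
    refine ⟨∑ n ∈ ((toReesM F).symm y : PolynomialModule A M).coeff.support,
      DirectSum.of G n (Submodule.Quotient.mk ⟨ReesM.coeff F y n, powFilt_N I M n ▸ ReesM.coeff_mem F y n⟩), ?_⟩
    rw [map_sum]
    refine Finset.sum_congr rfl fun n _ => ?_
    exact DirectSum.toModule_lof A n (φ := incq) (Submodule.Quotient.mk _)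
  let eA : (⨁ n, G n) ≃ₗ[A] GrMod F := LinearEquiv.ofBijective Φ ⟨hinj, hsurj⟩
  haveI : IsScalarTower A (A ⧸ I) (⨁ n, G n) := IsScalarTower.of_algebraMap_smul fun a z => by
    refine DFinsupp.ext fun n => ?_
    rfl
  let eR : (⨁ n, G n) ≃ₗ[A ⧸ I] GrMod F :=
    LinearEquiv.extendScalarsOfSurjective Ideal.Quotient.mk_surjective eA
  exact (show (∀ n, Module.Flat (A ⧸ I) (G n)) ↔ _ from
    (Module.Flat.directSum_iff (R := A ⧸ I) (M := G)).symm.trans ⟨fun h => Module.Flat.of_linearEquiv eR.symm,
      fun h => Module.Flat.of_linearEquiv eR⟩)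

end Groth.Agent.EGA4Dim
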