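import Mathlib
import Groth.Agent.FlatSecLib.DepthTwo

/-!
# Connectedness in codimension given by depth two
-/

set_option autoImplicit false
set_option linter.style.haveILetI false

universe u

namespace Groth.Agent.EGA4Dim

variable {A : Type u} [CommRing A] [IsNoetherianRing A]

theorem eq_bot_or_eq_bot_of_mul_eq_bot [ConnectedSpace (PrimeSpectrum A)] {J₁ J₂ : Ideal A} (hmul : J₁ * J₂ = ⊥)
    (h : ∀ (p : Ideal A) [p.IsPrime], J₁ ⊔ J₂ ≤ p →
      (2 : ℕ∞) ≤ LocCoh.depth (Localization.AtPrime p) (Localization.AtPrime p)) : J₁ = ⊥ ∨ J₂ = ⊥ := by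
  obtain ⟨x, hx, y, hy, hxn, hyn, hxy⟩ := FlatSecLib.exists_regular_pair (J₁ ⊔ J₂)
    (St := fun p : PrimeSpectrum A => Localization.AtPrime p.asIdeal) fun p hp => h p.asIdeal hp
  obtain ⟨a₁, ha₁, a₂, ha₂, rfl⟩ := Submodule.mem_sup.1 hx
  obtain ⟨b₁, hb₁, b₂, hb₂, rfl⟩ := Submodule.mem_sup.1 hy
  have h0 : ∀ {a b : A}, a ∈ J₁ → b ∈ J₂ → a * b = 0 := fun ha hb => by
    simpa [hmul] using Ideal.mul_mem_mul ha hb
  obtain ⟨e, he⟩ := Ideal.mem_span_singleton'.1 (hxy a₁ (Ideal.mem_span_singleton'.2 ⟨b₁, by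
    linear_combination h0 hb₁ ha₂ - h0 ha₁ hb₂⟩))
  have hid : IsIdempotentElem e := sub_eq_zero.1 ((mul_right_mem_nonZeroDivisors_eq_zero_iff hxn).1
    ((mul_right_mem_nonZeroDivisors_eq_zero_iff hxn).1
      (show ((e * e - e) * (a₁ + a₂)) * (a₁ + a₂) = 0 by
        linear_combination (e * (a₁ + a₂) + a₁ - a₁ - a₂) * he - h0 ha₁ ha₂)))
  have hor : e = 0 ∨ e = 1 := by
    rcases isClopen_iff.mp (PrimeSpectrum.isClopen_iff.mpr ⟨e, hid, rfl⟩ :
        IsClopen (PrimeSpectrum.basicOpen e : Set (PrimeSpectrum A))) with h' | h'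
    · exact Or.inl (hid.eq_zero_of_isNilpotent ((PrimeSpectrum.basicOpen_eq_bot_iff e).mp (TopologicalSpace.Opens.ext h')))
    · refine Or.inr ((IsIdempotentElem.iff_eq_one_of_isUnit ?_).mp hid)
      rw [← Ideal.span_singleton_eq_top, ← PrimeSpectrum.zeroLocus_empty_iff_eq_top, PrimeSpectrum.zeroLocus_span]
      rw [PrimeSpectrum.basicOpen_eq_zeroLocus_compl, Set.compl_univ_iff] at h'
      exact h'
  rcases hor with rfl | rfl
  · left
    rw [zero_mul] at he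
    rw [← he, zero_add] at hxn
    exact (Submodule.eq_bot_iff _).2 fun z hz => (mul_right_mem_nonZeroDivisors_eq_zero_iff hxn).1 (h0 hz ha₂)
  · right
    have ha : a₂ = 0 := by linear_combination he
    rw [ha, add_zero] at hxn
    exact (Submodule.eq_bot_iff _).2 fun z hz => (mul_right_mem_nonZeroDivisors_eq_zero_iff hxn).1 (by
      rw [mul_comm]; exact h0 ha₁ hz)

/-- Hartshorne: two closed sets covering the spectrum and meeting only at points of depth at least two. -/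
theorem zeroLocus_eq_univ_or [ConnectedSpace (PrimeSpectrum A)] {J₁ J₂ : Ideal A}
    (hcov : ∀ p : PrimeSpectrum A, J₁ ≤ p.asIdeal ∨ J₂ ≤ p.asIdeal)
    (h : ∀ (p : Ideal A) [p.IsPrime], J₁ ≤ p → J₂ ≤ p →
      (2 : ℕ∞) ≤ LocCoh.depth (Localization.AtPrime p) (Localization.AtPrime p)) :
    (∀ p : PrimeSpectrum A, J₁ ≤ p.asIdeal) ∨ ∀ p : PrimeSpectrum A, J₂ ≤ p.asIdeal := by
  have hnil : J₁ * J₂ ≤ nilradical A := by
    rw [nilradical_eq_sInf]
    refine le_sInf fun p hp => ?_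
    rcases hcov ⟨p, hp⟩ with h' | h'
    · exact Ideal.mul_le_left.trans h'
    · exact Ideal.mul_le_right.trans h'
  obtain ⟨n, hn⟩ := Ideal.exists_pow_le_of_le_radical_of_fg (I := J₁ * J₂) (J := (⊥ : Ideal A)) hnil (IsNoetherian.noetherian _)
  have hn' : J₁ ^ (n + 1) * J₂ ^ (n + 1) = ⊥ := by
    rw [← mul_pow]; exact le_bot_iff.1 ((Ideal.pow_le_pow_right n.le_succ).trans hn)
  rcases eq_bot_or_eq_bot_of_mul_eq_bot hn' (fun p _ hp =>
      h p (Ideal.IsPrime.le_of_pow_le (le_sup_left.trans hp)) (Ideal.IsPrime.le_of_pow_le (le_sup_right.trans hp))) with h' | h'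
  · exact Or.inl fun p => Ideal.IsPrime.le_of_pow_le (h'.trans_le bot_le)
  · exact Or.inr fun p => Ideal.IsPrime.le_of_pow_le (h'.trans_le bot_le)

theorem isPreconnected_compl_zeroLocus [ConnectedSpace (PrimeSpectrum A)] (I : Ideal A)
    (h : ∀ (p : Ideal A) [p.IsPrime], I ≤ p →
      (2 : ℕ∞) ≤ LocCoh.depth (Localization.AtPrime p) (Localization.AtPrime p)) :
    IsPreconnected ((PrimeSpectrum.zeroLocus (I : Set A))ᶜ) := by
  rw [isPreconnected_closed_iff]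
  intro t t' ht ht' hsub ⟨u, hu, hut⟩ ⟨v, hv, hvt⟩
  by_contra hemp
  rw [Set.not_nonempty_iff_eq_empty, Set.eq_empty_iff_forall_notMem] at hemp
  obtain ⟨a, rfl⟩ := (PrimeSpectrum.isClosed_iff_zeroLocus_ideal t).1 ht
  obtain ⟨b, rfl⟩ := (PrimeSpectrum.isClosed_iff_zeroLocus_ideal t').1 ht'
  have hiff : ∀ (c : Ideal A) (p : PrimeSpectrum A), (a ⊓ c ≤ p.asIdeal ↔ a ≤ p.asIdeal ∨ c ≤ p.asIdeal) :=
    fun c p => Ideal.IsPrime.inf_le p.2
  refine (zeroLocus_eq_univ_or (J₁ := a ⊓ I) (J₂ := b ⊓ I) (fun p => ?_) (fun p hp h₁ h₂ => ?_)).elim (fun h' => ?_) (fun h' => ?_)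
  · by_cases hI : I ≤ p.asIdeal
    · exact Or.inl ((hiff I p).2 (Or.inr hI))
    · rcases hsub (show p ∈ (PrimeSpectrum.zeroLocus (I : Set A))ᶜ from hI) with h1 | h1
      · exact Or.inl ((hiff I p).2 (Or.inl h1))
      · exact Or.inr (inf_le_left.trans h1)
  · refine h p ?_
    by_contra hI
    exact hemp ⟨p, hp⟩ ⟨hI, ((Ideal.IsPrime.inf_le hp).1 h₁).resolve_right hI, ((Ideal.IsPrime.inf_le hp).1 h₂).resolve_right hI⟩
  · rcases (hiff I v).1 (h' v) with h1 | h1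
    · exact hemp v ⟨hv, h1, hvt⟩
    · exact hv h1
  · rcases (Ideal.IsPrime.inf_le u.2).1 (h' u) with h1 | h1
    · exact hemp u ⟨hu, hut, h1⟩
    · exact hu h1

theorem exists_chain_of_reflTransGen {α : Type*} {r : α → α → Prop} {a b : α} (h : Relation.ReflTransGen r a b) :
    ∃ (n : ℕ) (c : Fin (n + 1) → α), c 0 = a ∧ c (Fin.last n) = b ∧ ∀ i : Fin n, r (c i.castSucc) (c i.succ) := by
  induction h with
  | refl => exact ⟨0, fun _ => a, rfl, rfl, fun i => i.elim0⟩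
  | @tail x y _ hxy ih =>
    obtain ⟨n, c, h0, hl, hc⟩ := ih
    refine ⟨n + 1, Fin.snoc c y, ?_, Fin.snoc_last _ _, fun i => ?_⟩
    · rw [show (0 : Fin (n + 2)) = Fin.castSucc 0 from rfl, Fin.snoc_castSucc, h0]
    · induction i using Fin.lastCases with
      | last => rw [Fin.snoc_castSucc, Fin.succ_last, Fin.snoc_last, hl]; exact hxy
      | cast j => rw [Fin.snoc_castSucc, Fin.succ_castSucc, Fin.snoc_castSucc]; exact hc j

/-- Two minimal primes joined by a common prime of height `< d`. -/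
def MinLink (d : ℕ) (a b : minimalPrimes A) : Prop :=
  ∃ (q : Ideal A) (_ : q.IsPrime), a.1 ≤ q ∧ b.1 ≤ q ∧ q.height + 1 ≤ (d : ℕ∞)

theorem reflTransGen_minLink [ConnectedSpace (PrimeSpectrum A)] (d : ℕ)
    (h : ∀ (p : Ideal A) [p.IsPrime], (d : ℕ∞) ≤ p.height →
      (2 : ℕ∞) ≤ LocCoh.depth (Localization.AtPrime p) (Localization.AtPrime p))
    (a b : minimalPrimes A) : Relation.ReflTransGen (MinLink d) a b := by
  classical
  let hfin := minimalPrimes.finite_of_isNoetherianRing A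
  let T := hfin.toFinset.filter fun P => ∃ hP : P ∈ minimalPrimes A, Relation.ReflTransGen (MinLink d) a ⟨P, hP⟩
  let T' := hfin.toFinset \ T
  have hmem : ∀ (S : Finset (Ideal A)) (p : PrimeSpectrum A), S.inf id ≤ p.asIdeal → ∃ P ∈ S, P ≤ p.asIdeal :=
    fun S p hp => by obtain ⟨P, hP, hle⟩ := (Ideal.IsPrime.inf_le' p.2).1 hp; exact ⟨P, hP, hle⟩
  refine (zeroLocus_eq_univ_or (J₁ := T.inf id) (J₂ := T'.inf id) (fun p => ?_) (fun q hq h₁ h₂ => ?_)).elim (fun hu => ?_) (fun hu => ?_)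
  · obtain ⟨P, hP, hle⟩ := Ideal.exists_minimalPrimes_le (bot_le : (⊥ : Ideal A) ≤ p.asIdeal)
    by_cases hPT : P ∈ T
    · exact Or.inl ((Finset.inf_le hPT).trans hle)
    · exact Or.inr ((Finset.inf_le (Finset.mem_sdiff.2 ⟨hfin.mem_toFinset.2 hP, hPT⟩)).trans hle)
  · refine h q (not_lt.1 fun hlt => ?_)
    obtain ⟨P, hP, hPle⟩ := hmem T ⟨q, hq⟩ h₁
    obtain ⟨Q, hQ, hQle⟩ := hmem T' ⟨q, hq⟩ h₂
    obtain ⟨hQm, hQT⟩ := Finset.mem_sdiff.1 hQ
    obtain ⟨hPm, hP'⟩ := (Finset.mem_filter.1 hP).2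
    exact hQT (Finset.mem_filter.2 ⟨hQm, hfin.mem_toFinset.1 hQm,
      hP'.tail ⟨q, hq, hPle, hQle, Order.add_one_le_of_lt hlt⟩⟩)
  · obtain ⟨P, hP, hle⟩ := hmem T ⟨b.1, b.2.1.1⟩ (hu _)
    obtain ⟨hPm, hP'⟩ := (Finset.mem_filter.1 hP).2
    have hPb : (⟨P, hPm⟩ : minimalPrimes A) = b := Subtype.ext (le_antisymm hle (b.2.2 hPm.1 hle))
    rwa [hPb] at hP'
  · obtain ⟨P, hP, hle⟩ := hmem T' ⟨a.1, a.2.1.1⟩ (hu _)
    obtain ⟨hPm, hPT⟩ := Finset.mem_sdiff.1 hP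
    have hPa : P = a.1 := le_antisymm hle (a.2.2 (hfin.mem_toFinset.1 hPm).1 hle)
    exact absurd (Finset.mem_filter.2 ⟨hPm, by subst hPa; exact ⟨a.2, Relation.ReflTransGen.refl⟩⟩) hPT

end Groth.Agent.EGA4Dim
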