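import Mathlib
import Groth.Agent.NormFlatLib.Generic
import Groth.Agent.NormFlatLib.Nilpotent
import Groth.Agent.EGA4Dim.TensorSk

/-!
# Normal flatness under localization
-/

set_option autoImplicit false
set_option linter.style.haveILetI false

universe u

namespace Groth.Agent.EGA4Dim

open IsLocalRing

theorem isNormallyFlat_localized {A : Type u} [CommRing A] (I : Ideal A) (M : Type u) [AddCommGroup M] [Module A M]
    (hM : EGA4.IsNormallyFlat I M) (S : Submonoid A) (Af : Type u) [CommRing Af] [Algebra A Af] [IsLocalization S Af]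
    (N : Type u) [AddCommGroup N] [Module A N] [Module Af N] [IsScalarTower A Af N] (g : M →ₗ[A] N) [IsLocalizedModule S g] :
    EGA4.IsNormallyFlat (I.map (algebraMap A Af)) N := fun k => by
  obtain ⟨φ, hφ⟩ := NormFlatLib.isLocalizedModule_piece I M S Af N g k
  let R := A ⧸ I
  let If := I.map (algebraMap A Af)
  let G := ↥(I ^ k • (⊤ : Submodule A M)) ⧸ (I • (⊤ : Submodule A ↥(I ^ k • (⊤ : Submodule A M))))
  let G' := ↥(If ^ k • (⊤ : Submodule Af N)) ⧸ (If • (⊤ : Submodule Af ↥(If ^ k • (⊤ : Submodule Af N))))
  let Rf := Af ⧸ If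
  haveI : Module.Flat R G := hM k
  letI : Algebra R Rf := (Ideal.quotientMap If (algebraMap A Af) Ideal.le_comap_map).toAlgebra
  haveI : IsScalarTower A R Rf := IsScalarTower.of_algebraMap_eq fun _ => rfl
  let T := S.map (Ideal.Quotient.mk I)
  haveI : IsLocalization T Rf :=
    IsLocalization.of_surjective (R := A) (S := Af) (M := S) (S' := Rf)
      (Ideal.Quotient.mk I) Ideal.Quotient.mk_surjective (Ideal.Quotient.mk If) Ideal.Quotient.mk_surjective
      (RingHom.ext fun _ => rfl) (by rw [Ideal.mk_ker, Ideal.mk_ker])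
  letI : Module R G' := Module.compHom G' (algebraMap R Rf)
  haveI : IsScalarTower R Rf G' := IsScalarTower.of_algebraMap_smul fun _ _ => rfl
  haveI : IsScalarTower A R G' := IsScalarTower.of_algebraMap_smul fun a x => by
    show (algebraMap R Rf (algebraMap A R a)) • x = a • x
    rw [← IsScalarTower.algebraMap_apply A R Rf, IsScalarTower.algebraMap_apply A Af Rf, algebraMap_smul, algebraMap_smul]
  haveI : IsScalarTower A R G := IsScalarTower.of_algebraMap_smul fun a x => rfl
  let φR : G →ₗ[R] G' := φ.extendScalarsOfSurjective Ideal.Quotient.mk_surjective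
  haveI : IsLocalizedModule T φR := by
    refine ⟨fun x => ?_, fun y => ?_, fun {a b} hab => ?_⟩
    · obtain ⟨_, s, hs, rfl⟩ := x
      have := IsLocalizedModule.map_units φ (⟨s, hs⟩ : S)
      rw [Module.End.isUnit_iff] at this ⊢
      convert! this using 1
      funext y
      exact algebraMap_smul R s y
    · obtain ⟨⟨z, ⟨s, hs⟩⟩, hz⟩ := IsLocalizedModule.surj S φ y
      exact ⟨⟨z, ⟨_, s, hs, rfl⟩⟩, (algebraMap_smul R s y).trans hz⟩
    · obtain ⟨⟨s, hs⟩, hn⟩ := IsLocalizedModule.exists_of_eq (S := S) (f := φ) hab
      exact ⟨⟨_, s, hs, rfl⟩, (algebraMap_smul R s a).trans (hn.trans (algebraMap_smul R s b).symm)⟩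
  haveI : Module.Flat (Localization T) (LocalizedModule T G) :=
    Module.Flat.isBaseChange R (Localization T) G (LocalizedModule T G)
      (IsLocalizedModule.isBaseChange T (Localization T) (LocalizedModule.mkLinearMap T G))
  haveI : Module.Flat R (Localization T) := IsLocalization.flat _ T
  haveI : Module.Flat R (LocalizedModule T G) := Module.Flat.trans R (Localization T) _
  haveI : Module.Flat R G' := Module.Flat.of_linearEquiv (IsLocalizedModule.iso T φR).symm
  exact (Module.flat_iff_of_isLocalization Rf T G').2 inferInstance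

theorem dim_depth_localized_of_nilpotent {A : Type u} [CommRing A] [IsNoetherianRing A] (I : Ideal A) (hI : IsNilpotent I)
    (M : Type u) [AddCommGroup M] [Module A M] [Module.Finite A M] (hM : EGA4.IsNormallyFlat I M)
    (hsupp : Module.support A M = Set.univ) (P : Ideal A) [P.IsPrime] :
    Module.supportDim (Localization.AtPrime P) (LocalizedModule P.primeCompl M) =
        Module.supportDim (Localization.AtPrime P) (LocalizedModule P.primeCompl (A ⧸ I)) ∧
      LocCoh.depth (Localization.AtPrime P) (LocalizedModule P.primeCompl M) =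
        LocCoh.depth (Localization.AtPrime P) (LocalizedModule P.primeCompl (A ⧸ I)) := by
  let L := Localization.AtPrime P
  haveI : IsNoetherianRing L := IsLocalization.isNoetherianRing P.primeCompl L inferInstance
  let Mp := LocalizedModule P.primeCompl M
  haveI : Module.Finite L Mp := Module.Finite.of_isLocalizedModule P.primeCompl (LocalizedModule.mkLinearMap P.primeCompl M)
  haveI : Nontrivial Mp := (hsupp.ge trivial : (⟨P, inferInstance⟩ : PrimeSpectrum A) ∈ Module.support A M)
  have hN := isNormallyFlat_localized I M hM P.primeCompl L Mp (LocalizedModule.mkLinearMap P.primeCompl M)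
  obtain ⟨n, hn⟩ := hI
  have hI' : IsNilpotent (I.map (algebraMap A L)) := ⟨n, by rw [← Ideal.map_pow, hn]; exact Ideal.map_bot⟩
  obtain ⟨h1, h2⟩ := NormFlatLib.dim_depth_of_nilpotent (I.map (algebraMap A L)) hI' Mp hN
  let ψ := Submodule.toLocalizedQuotient' L P.primeCompl (Algebra.linearMap A L) I
  have hloc : (Submodule.localized' L P.primeCompl (Algebra.linearMap A L) I) = I.map (algebraMap A L) := by
    rw [Submodule.localized'_eq_span]; rfl
  let e : LocalizedModule P.primeCompl (A ⧸ I) ≃ₗ[L] L ⧸ I.map (algebraMap A L) :=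
    ((IsLocalizedModule.linearEquiv P.primeCompl (LocalizedModule.mkLinearMap P.primeCompl (A ⧸ I)) ψ).extendScalarsOfIsLocalization P.primeCompl L).trans
      (Submodule.quotEquivOfEq _ _ hloc)
  rw [Module.supportDim_eq_of_equiv e, Depth.depth_congr e, h1, h2, Module.supportDim_quotient_eq_ringKrullDim]
  exact ⟨rfl, rfl⟩

end Groth.Agent.EGA4Dim
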