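import Mathlib
import Groth.Prelude.Def_EGA4c
import Groth.Agent.FlatDepth.Basic

/-!
# Purity of a module along a set of primes
-/

set_option autoImplicit false
set_option linter.style.haveILetI false

universe u

namespace Groth.Agent.EGA4Dim

open AlgebraicGeometry CategoryTheory Opposite

variable {A : Type u} [CommRing A] {M : Type u} [AddCommGroup M] [Module A M]

set_option backward.isDefEq.respectTransparency false in
theorem injective_restrCompl_iff (J : Ideal A) :
    Function.Injective (EGA4.restrCompl A J M) ↔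
      ∀ m : M, (∀ q : PrimeSpectrum A, ¬ J ≤ q.asIdeal → ∃ s : A, s ∉ q.asIdeal ∧ s • m = 0) → m = 0 := by
  let R := CommRingCat.of A
  let N : ModuleCat.{u} R := ModuleCat.of (CommRingCat.of A) M
  let U : TopologicalSpace.Opens (PrimeSpectrum.Top R) := EGA4.openCompl A J
  let t : M → Γ(tilde N, ⊤) := fun m => (tilde.toOpen N ⊤).hom m
  have ht : Function.Bijective t := (tilde.isoTop N).toLinearEquiv.bijective
  have hker : ∀ m : M, EGA4.restrCompl A J M (t m) = 0 ↔
      ∀ q : PrimeSpectrum A, ¬ J ≤ q.asIdeal → ∃ s : A, s ∉ q.asIdeal ∧ s • m = 0 := fun m => by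
    have h1 : EGA4.restrCompl A J M (t m) = StructureSheaf.toOpenₗ R N U m := rfl
    rw [h1]
    have h2 : ∀ q : PrimeSpectrum A, (¬ J ≤ q.asIdeal) ↔ q ∈ U := fun q => Iff.rfl
    constructor
    · intro h q hq
      have hval : (StructureSheaf.toOpenₗ R N U m).1 ⟨q, (h2 q).1 hq⟩ = 0 := by rw [h]; rfl
      have hval' : LocalizedModule.mk m (1 : q.asIdeal.primeCompl) = 0 := hval
      rw [← LocalizedModule.zero_mk 1, LocalizedModule.mk_eq] at hval'
      obtain ⟨s, hs⟩ := hval'
      refine ⟨s, s.2, ?_⟩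
      simpa [Submonoid.smul_def] using hs
    · intro h
      refine Subtype.ext (funext fun x => ?_)
      obtain ⟨s, hs, hsm⟩ := h x.1 ((h2 x.1).2 x.2)
      show LocalizedModule.mk m (1 : x.1.asIdeal.primeCompl) = 0
      rw [← LocalizedModule.zero_mk 1, LocalizedModule.mk_eq]
      exact ⟨⟨s, hs⟩, by simpa [Submonoid.smul_def] using hsm⟩
  constructor
  · intro h m hm
    have h0 : t 0 = 0 := map_zero (tilde.toOpen N ⊤).hom
    exact ht.1 ((h (((hker m).2 hm).trans (map_zero _).symm)).trans h0.symm)
  · intro h x y hxy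
    obtain ⟨m, hm⟩ := ht.2 (x - y)
    have h1 : EGA4.restrCompl A J M (t m) = 0 := by
      rw [hm, map_sub, hxy, sub_self]
    have h2 := h m ((hker m).1 h1)
    rw [h2] at hm
    exact sub_eq_zero.1 (hm.symm.trans (map_zero (tilde.toOpen N ⊤).hom))

variable [IsNoetherianRing A] {Z : Set (PrimeSpectrum A)}

theorem isPureAlong_iff (hZ : StableUnderSpecialization Z) :
    EGA4.IsPureAlong Z M ↔ ∀ p : PrimeSpectrum A, p.asIdeal ∈ associatedPrimes A M → p ∉ Z := by
  constructor
  · intro h p hp hpZ
    obtain ⟨hpr, m, hm⟩ := isAssociatedPrime_iff.1 hp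
    have hmem : ∀ a, a ∈ p.asIdeal ↔ a • m = 0 := fun a => by
      rw [hm, Submodule.mem_colon_singleton, Submodule.mem_bot]
    have h0 : m = 0 := (injective_restrCompl_iff p.asIdeal).1
      (h p.asIdeal fun q hq => hZ ((PrimeSpectrum.le_iff_specializes p q).1 hq) hpZ) m fun q hq => by
        obtain ⟨s, hs, hsq⟩ := SetLike.not_le_iff_exists.1 hq
        exact ⟨s, hsq, (hmem s).1 hs⟩
    exact hpr.ne_top ((Ideal.eq_top_iff_one _).2 ((hmem 1).2 (by rw [h0, smul_zero])))
  · intro h J hJ
    refine (injective_restrCompl_iff J).2 fun m hm => by_contra fun hm0 => ?_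
    obtain ⟨P, hP, hle⟩ := exists_le_isAssociatedPrime_of_isNoetherianRing A m hm0
    refine h ⟨P, hP.1⟩ hP (hJ ?_)
    by_contra hq
    obtain ⟨s, hs, hsm⟩ := hm ⟨P, hP.1⟩ hq
    exact hs (hle (by rw [Submodule.mem_colon_singleton, Submodule.mem_bot]; exact hsm))

theorem notMem_associatedPrimes_iff_one_le_depth [Module.Finite A M] (p : Ideal A) [p.IsPrime] :
    p ∉ associatedPrimes A M ↔
      (1 : ℕ∞) ≤ LocCoh.depth (Localization.AtPrime p) (LocalizedModule p.primeCompl M) := by
  let L := Localization.AtPrime p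
  haveI : IsNoetherianRing L := IsLocalization.isNoetherianRing p.primeCompl L inferInstance
  haveI : Module.Finite L (LocalizedModule p.primeCompl M) :=
    Module.Finite.of_isLocalizedModule p.primeCompl (LocalizedModule.mkLinearMap p.primeCompl M)
  have h1 : IsLocalRing.maximalIdeal L ∈ associatedPrimes L (LocalizedModule p.primeCompl M) ↔ p ∈ associatedPrimes A M := by
    rw [← Module.associatedPrimes.preimage_comap_associatedPrimes_eq_associatedPrimes_of_isLocalizedModule p.primeCompl
      (f := LocalizedModule.mkLinearMap p.primeCompl M) (R' := L), Set.mem_preimage]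
    rw [show (IsLocalRing.maximalIdeal L).comap (algebraMap A L) = p from IsLocalization.AtPrime.comap_maximalIdeal L p]
  rw [← h1]
  rcases subsingleton_or_nontrivial (LocalizedModule p.primeCompl M) with hs | hn
  · rw [CAlgBasics.depth_eq_top, associatedPrimes.eq_empty_of_subsingleton]
    simp
  · rw [ENat.one_le_iff_ne_zero, ne_eq, FlatDepth.depth_eq_zero_iff, not_iff_not]
    refine ⟨fun hP => ?_, fun ⟨x, hx, hx'⟩ => ?_⟩
    · obtain ⟨hpr, x, hx⟩ := isAssociatedPrime_iff.1 hP
      have hmem : ∀ a, a ∈ IsLocalRing.maximalIdeal L ↔ a • x = 0 := fun a => by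
        rw [hx, Submodule.mem_colon_singleton, Submodule.mem_bot]
      exact ⟨x, fun h0 => hpr.ne_top ((Ideal.eq_top_iff_one _).2 ((hmem 1).2 (by rw [h0, smul_zero]))),
        fun r hr => (hmem r).1 hr⟩
    · refine isAssociatedPrime_iff.2 ⟨(IsLocalRing.maximalIdeal.isMaximal L).isPrime, x, le_antisymm (fun r hr => ?_) ?_⟩
      · rw [Submodule.mem_colon_singleton, Submodule.mem_bot]
        exact hx' r hr
      · refine IsLocalRing.le_maximalIdeal fun htop => hx ?_
        have h1x : (1 : L) ∈ (⊥ : Submodule L (LocalizedModule p.primeCompl M)).colon {x} := by rw [htop]; trivial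
        rwa [Submodule.mem_colon_singleton, Submodule.mem_bot, one_smul] at h1x

end Groth.Agent.EGA4Dim
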