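import Mathlib
import Groth.Prelude.Def_EGA4b
import Groth.Agent.S11650
import Groth.Agent.FlatDepth.Basic
import Groth.Agent.GrCoreLib.Height
import Groth.Agent.CatLib.Basic

/-!
# Serre's conditions and equidimensionality along a regular element
-/

set_option autoImplicit false
set_option linter.style.haveILetI false

universe u

namespace Groth.Agent.EGA4Dim

open IsLocalRing
open scoped Pointwise

variable {A : Type u} [CommRing A] (M : Type u) [AddCommGroup M] [Module A M]

/-- Reduction modulo an element commutes with localization. -/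
theorem exists_quotSMulTop_equiv (t : A) (p : Ideal A) [p.IsPrime] :
    Nonempty (LocalizedModule p.primeCompl (QuotSMulTop t M) ≃ₗ[Localization.AtPrime p]
      QuotSMulTop (algebraMap A (Localization.AtPrime p) t) (LocalizedModule p.primeCompl M)) := by
  let S := p.primeCompl
  let L := Localization.AtPrime p
  let f := LocalizedModule.mkLinearMap S M
  let P := t • (⊤ : Submodule A M)
  have hP : P.localized' L S f = algebraMap A L t • (⊤ : Submodule L (LocalizedModule S M)) := by
    have h1 : P = Ideal.span {t} • (⊤ : Submodule A M) := (Submodule.ideal_span_singleton_smul t ⊤).symm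
    rw [h1, Submodule.localized'_smul, Submodule.localized'_top, Submodule.localized'_eq_span,
      ← Submodule.ideal_span_singleton_smul]
    congr 1
    show Ideal.span (algebraMap A L '' (Ideal.span {t} : Ideal A)) = _
    rw [show Ideal.span (algebraMap A L '' (Ideal.span {t} : Ideal A)) = (Ideal.span {t}).map (algebraMap A L) from rfl,
      Ideal.map_span, Set.image_singleton]
  let E : (LocalizedModule S M ⧸ P.localized' L S f) ≃ₗ[L] QuotSMulTop (algebraMap A L t) (LocalizedModule S M) :=
    Submodule.quotEquivOfEq _ _ hP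
  haveI : IsLocalizedModule S ((E.restrictScalars A).toLinearMap.comp (P.toLocalizedQuotient' L S f)) :=
    IsLocalizedModule.of_linearEquiv S _ (E.restrictScalars A)
  exact ⟨(IsLocalizedModule.iso S ((E.restrictScalars A).toLinearMap.comp (P.toLocalizedQuotient' L S f))).extendScalarsOfIsLocalization S L⟩

variable [IsNoetherianRing A] [Module.Finite A M]

theorem add_one_cancel {a b : ℕ∞} (h : a + 1 ≤ b + 1) : a ≤ b :=
  (ENat.add_le_add_iff_right ENat.one_ne_top).1 h

/-- The values of depth and dimension at a prime containing the regular element. -/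
theorem slice_data {t : A} (hreg : IsSMulRegular M t) (q : Ideal A) [q.IsPrime] (htq : t ∈ q)
    [Nontrivial (LocalizedModule q.primeCompl M)] :
    LocCoh.depth (Localization.AtPrime q) (LocalizedModule q.primeCompl (QuotSMulTop t M)) + 1 =
      LocCoh.depth (Localization.AtPrime q) (LocalizedModule q.primeCompl M) ∧
    Module.supportDim (Localization.AtPrime q) (LocalizedModule q.primeCompl (QuotSMulTop t M)) + 1 =
      Module.supportDim (Localization.AtPrime q) (LocalizedModule q.primeCompl M) := by
  let L := Localization.AtPrime q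
  let Mq := LocalizedModule q.primeCompl M
  haveI : IsNoetherianRing L := IsLocalization.isNoetherianRing q.primeCompl L inferInstance
  haveI : Module.Finite L Mq := Module.Finite.of_isLocalizedModule q.primeCompl (LocalizedModule.mkLinearMap q.primeCompl M)
  have hm : algebraMap A L t ∈ maximalIdeal L := by
    rw [← Localization.AtPrime.map_eq_maximalIdeal]
    exact Ideal.mem_map_of_mem _ htq
  have hr : IsSMulRegular Mq (algebraMap A L t) :=
    hreg.of_isLocalizedModule L q.primeCompl (LocalizedModule.mkLinearMap q.primeCompl M)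
  obtain ⟨e⟩ := exists_quotSMulTop_equiv M t q
  rw [CAlgBasics.depth_congr e, Module.supportDim_eq_of_equiv e]
  exact ⟨FlatDepth.depth_quotSMulTop hm hr, Module.supportDim_quotSMulTop_succ_eq_supportDim hr hm⟩

variable [IsLocalRing A] {t : A}

theorem exists_slice_prime (ht : t ∈ maximalIdeal A) (p : Ideal A) [p.IsPrime] (htp : t ∉ p) :
    ∃ (q : Ideal A) (_ : q.IsPrime), p < q ∧ t ∈ q ∧ (q.map (Ideal.Quotient.mk p)).height ≤ 1 := by
  obtain ⟨q, hq, -⟩ := Ideal.exists_minimalPrimes_le (I := p ⊔ Ideal.span {t}) (J := maximalIdeal A)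
    (sup_le (IsLocalRing.le_maximalIdeal Ideal.IsPrime.ne_top') ((Ideal.span_singleton_le_iff_mem _).2 ht))
  haveI := hq.1.1
  have hpq : p ≤ q := le_sup_left.trans hq.1.2
  have htq : t ∈ q := hq.1.2 (Ideal.mem_sup_right (Ideal.mem_span_singleton_self t))
  refine ⟨q, hq.1.1, lt_of_le_of_ne hpq fun h => htp (h ▸ htq), htq, ?_⟩
  haveI : (q.map (Ideal.Quotient.mk p)).IsPrime := Ideal.isPrime_map_quotientMk_of_isPrime hpq
  refine Ideal.height_le_one_of_isPrincipal_of_mem_minimalPrimes (Ideal.span {Ideal.Quotient.mk p t}) _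
    ⟨⟨inferInstance, (Ideal.span_singleton_le_iff_mem _).2 (Ideal.mem_map_of_mem _ htq)⟩, fun r hr hrq => ?_⟩
  have h1 : q ≤ r.comap (Ideal.Quotient.mk p) := by
    refine hq.2 ⟨hr.1.comap _, sup_le (fun x hx => ?_) ((Ideal.span_singleton_le_iff_mem _).2
      (hr.2 (Ideal.mem_span_singleton_self _)))⟩ ?_
    · show Ideal.Quotient.mk p x ∈ r
      rw [Ideal.Quotient.eq_zero_iff_mem.2 hx]
      exact zero_mem _
    · refine (Ideal.comap_mono hrq).trans ?_
      rw [Ideal.comap_map_mk hpq]
  exact Ideal.map_le_iff_le_comap.2 h1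

/-- `(S_k)` lifts along a regular element. -/
theorem hasSk_of_quotSMulTop (k : ℕ) (ht : t ∈ maximalIdeal A) (hreg : IsSMulRegular M t)
    (hS : LocCoh.HasSk k A (QuotSMulTop t M)) : LocCoh.HasSk k A M := by
  intro p _
  rcases subsingleton_or_nontrivial (LocalizedModule p.primeCompl M) with hs | hs
  · rw [CAlgBasics.depth_eq_top (R := Localization.AtPrime p)]
    exact le_trans (min_le_left _ _) le_top
  by_cases htp : t ∈ p
  · obtain ⟨h1, h2⟩ := slice_data M hreg p htp
    rw [← h1, ← h2]
    have h := hS p
    generalize LocCoh.depth (Localization.AtPrime p) (LocalizedModule p.primeCompl (QuotSMulTop t M)) = d at h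
    generalize Module.supportDim (Localization.AtPrime p) (LocalizedModule p.primeCompl (QuotSMulTop t M)) = s at h
    rcases le_total s (k : WithBot ℕ∞) with hsk | hsk
    · rw [min_eq_right hsk] at h
      refine (min_le_right _ _).trans ?_
      rw [WithBot.coe_add, WithBot.coe_one]
      exact add_le_add h le_rfl
    · rw [min_eq_left hsk] at h
      refine (min_le_left _ _).trans ?_
      rw [WithBot.coe_add, WithBot.coe_one]
      exact h.trans (le_add_of_nonneg_right zero_le_one)
  · obtain ⟨q, _, hpq, htq, hht⟩ := exists_slice_prime ht p htp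
    have hann : Module.annihilator A M ≤ p :=
      Module.mem_support_iff_of_finite.1 ((Module.mem_support_iff (p := ⟨p, ‹_›⟩)).2 hs)
    haveI : Nontrivial (LocalizedModule q.primeCompl M) :=
      (Module.mem_support_iff (p := ⟨q, ‹_›⟩)).1 (Module.mem_support_iff_of_finite.2 (hann.trans hpq.le))
    obtain ⟨h1, h2⟩ := slice_data M hreg q htq
    have hd : LocCoh.depth (Localization.AtPrime q) (LocalizedModule q.primeCompl (QuotSMulTop t M)) ≤
        LocCoh.depth (Localization.AtPrime p) (LocalizedModule p.primeCompl M) := by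
      refine add_one_cancel (h1.le.trans ((S11650.result A M p q hpq.le).trans ?_))
      exact add_le_add le_rfl hht
    have hdim : Module.supportDim (Localization.AtPrime p) (LocalizedModule p.primeCompl M) ≤
        Module.supportDim (Localization.AtPrime q) (LocalizedModule q.primeCompl (QuotSMulTop t M)) := by
      have h3 := GrCoreLib.relHeight_add_one_le (Module.annihilator A M) (P := ⟨p, ‹_›⟩) (Q := ⟨q, ‹_›⟩) hann hpq
      have h4 : ((GrCoreLib.relHeight (Module.annihilator A M) ⟨p, ‹_›⟩ hann : ℕ∞) : WithBot ℕ∞) + 1 ≤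
          Module.supportDim (Localization.AtPrime q) (LocalizedModule q.primeCompl (QuotSMulTop t M)) + 1 := by
        rw [h2, GrCoreLib.supportDim_localized_eq M ⟨q, ‹_›⟩ (hann.trans hpq.le), ← WithBot.coe_one, ← WithBot.coe_add,
          WithBot.coe_le_coe]
        exact h3
      rw [GrCoreLib.supportDim_localized_eq M ⟨p, ‹_›⟩ hann]
      generalize Module.supportDim (Localization.AtPrime q) (LocalizedModule q.primeCompl (QuotSMulTop t M)) = s at h4
      induction s with
      | bot => exact absurd h4 (by rw [WithBot.bot_add, ← WithBot.coe_one, ← WithBot.coe_add]; exact not_le.2 (WithBot.bot_lt_coe _))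
      | coe s =>
        rw [← WithBot.coe_one, ← WithBot.coe_add, ← WithBot.coe_add, WithBot.coe_le_coe] at h4
        exact WithBot.coe_le_coe.2 (add_one_cancel h4)
    exact (min_le_min le_rfl hdim).trans ((hS q).trans (WithBot.coe_le_coe.2 hd))

/-- Equidimensionality lifts along a regular element in a catenary local ring. -/
theorem isEquidim_of_quotSMulTop (k : ℕ) (hk : 1 ≤ k) (hcat : CAlg.IsCatenary A) (ht : t ∈ maximalIdeal A)
    (hreg : IsSMulRegular M t) (hS : LocCoh.HasSk k A (QuotSMulTop t M))
    (heq : EGA4.IsEquidimModule A (QuotSMulTop t M)) : EGA4.IsEquidimModule A M := by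
  intro p hp
  haveI : p.IsPrime := hp.1.1
  have htp : t ∉ p := hreg.notMem_of_mem_minimalPrimes hp
  obtain ⟨q, _, hpq, htq, hht⟩ := exists_slice_prime ht p htp
  have hann : Module.annihilator A M ≤ p := hp.1.2
  let P : PrimeSpectrum A := ⟨p, ‹_›⟩
  let Q : PrimeSpectrum A := ⟨q, ‹_›⟩
  haveI : Nontrivial (LocalizedModule p.primeCompl M) :=
    (Module.mem_support_iff (p := P)).1 (Module.mem_support_iff_of_finite.2 hann)
  haveI : Nontrivial (LocalizedModule q.primeCompl M) :=
    (Module.mem_support_iff (p := Q)).1 (Module.mem_support_iff_of_finite.2 (hann.trans hpq.le))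
  obtain ⟨h1, h2⟩ := slice_data M hreg q htq
  haveI : IsNoetherianRing (Localization.AtPrime p) := IsLocalization.isNoetherianRing p.primeCompl _ inferInstance
  haveI : Module.Finite (Localization.AtPrime p) (LocalizedModule p.primeCompl M) :=
    Module.Finite.of_isLocalizedModule p.primeCompl (LocalizedModule.mkLinearMap p.primeCompl M)
  have hdimp : Module.supportDim (Localization.AtPrime p) (LocalizedModule p.primeCompl M) = 0 := by
    have hr : GrCoreLib.relHeight (Module.annihilator A M) P hann = 0 := by
      rw [GrCoreLib.relHeight, Order.height_eq_zero]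
      intro R hR
      exact hp.2 ⟨R.1.isPrime, R.2⟩ hR
    rw [GrCoreLib.supportDim_localized_eq M P hann, hr]
    rfl
  have hdp : LocCoh.depth (Localization.AtPrime p) (LocalizedModule p.primeCompl M) = 0 := by
    have h := QGorLib.depth_le_supportDim (R := Localization.AtPrime p) (LocalizedModule p.primeCompl M)
    rw [hdimp] at h
    exact nonpos_iff_eq_zero.1 (WithBot.coe_le_coe.1 h)
  have hd : LocCoh.depth (Localization.AtPrime q) (LocalizedModule q.primeCompl (QuotSMulTop t M)) = 0 := by
    refine nonpos_iff_eq_zero.1 (add_one_cancel (h1.le.trans ((S11650.result A M p q hpq.le).trans ?_)))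
    rw [hdp]
    exact add_le_add le_rfl hht
  haveI : Nontrivial (LocalizedModule q.primeCompl (QuotSMulTop t M)) := by
    by_contra hn
    rw [not_nontrivial_iff_subsingleton] at hn
    rw [CAlgBasics.depth_eq_top (R := Localization.AtPrime q)] at hd
    exact ENat.top_ne_zero hd
  have hannq : Module.annihilator A (QuotSMulTop t M) ≤ q :=
    Module.mem_support_iff_of_finite.1 ((Module.mem_support_iff (p := Q)).2 inferInstance)
  have hqmin : q ∈ (Module.annihilator A (QuotSMulTop t M)).minimalPrimes := by
    have h := hS q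
    rw [hd, GrCoreLib.supportDim_localized_eq (QuotSMulTop t M) Q hannq] at h
    have h' : min (k : ℕ∞) (GrCoreLib.relHeight (Module.annihilator A (QuotSMulTop t M)) Q hannq) ≤ 0 :=
      WithBot.coe_le_coe.1 (le_of_eq_of_le (WithBot.coe_min (k : ℕ∞) _) h)
    have hr : GrCoreLib.relHeight (Module.annihilator A (QuotSMulTop t M)) Q hannq = 0 := by
      rcases min_le_iff.1 h' with hk0 | hr
      · exact absurd (Nat.cast_le.1 (le_of_le_of_eq hk0 Nat.cast_zero.symm)) (by omega)
      · exact nonpos_iff_eq_zero.1 hr
    rw [GrCoreLib.relHeight, Order.height_eq_zero] at hr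
    exact ⟨⟨inferInstance, hannq⟩, fun r hr' hrq => hr (b := ⟨⟨r, hr'.1⟩, hr'.2⟩) hrq⟩
  have hcov : P ⋖ Q := by
    refine ⟨hpq, fun R h3 h4 => ?_⟩
    have a := GrCoreLib.relHeight_add_one_le p (P := P) (Q := R) le_rfl h3
    have b := GrCoreLib.relHeight_add_one_le p (P := R) (Q := Q) h3.le h4
    rw [GrCoreLib.relHeight_eq_height_quot p Q] at b
    have c : (1 : ℕ∞) + 1 ≤ 1 := by
      refine le_trans (add_le_add (le_trans ?_ a) le_rfl) (b.trans hht)
      simp
    exact absurd c (by norm_num)
  have hco := (CatLib.isCatenary_iff_coheight.1 hcat) P Q hcov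
  have hdimM : Module.supportDim A (QuotSMulTop t M) + 1 = Module.supportDim A M :=
    Module.supportDim_quotSMulTop_succ_eq_supportDim hreg ht
  rw [← hdimM, ← heq q hqmin, show p = P.asIdeal from rfl, show q = Q.asIdeal from rfl,
    CatLib.ringKrullDim_quotient_eq_coheight P, CatLib.ringKrullDim_quotient_eq_coheight Q, hco]
  rfl

end Groth.Agent.EGA4Dim
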