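import Groth.Agent.GRingCompleteLib.Formal
import Groth.Agent.EGA4Dim.FieldTensorCM
import Groth.Agent.SerreLib.R0S1
import Groth.Agent.KollarLib.Quotient
import Groth.Agent.RatliffLib.Strict
import Groth.Agent.GeomRk.FibreRk

/-!
# Formal fibres with Serre's condition `(S_n)`
-/

set_option autoImplicit false
set_option backward.isDefEq.respectTransparency false
set_option maxHeartbeats 1000000
set_option linter.style.haveILetI false
universe u

open IsLocalRing TensorProduct

namespace Groth.Agent.EGA4Dim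

/-- `(S_n)` passes to localizations. -/
theorem hasSk_of_isLocalization {R S : Type u} [CommRing R] [IsNoetherianRing R] [CommRing S] [Algebra R S]
    (M : Submonoid R) [IsLocalization M S] (n : ℕ) (h : LocCoh.HasSk n R R) : LocCoh.HasSk n S S := by
  rw [FlatDepth.hasSk_iff] at h ⊢
  intro P _
  haveI : IsLocalization.AtPrime (Localization.AtPrime P) (P.comap (algebraMap R S)) :=
    IsLocalization.isLocalization_isLocalization_atPrime_isLocalization M (Localization.AtPrime P) P
  haveI : IsNoetherianRing (Localization.AtPrime (P.comap (algebraMap R S))) :=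
    IsLocalization.isNoetherianRing (P.comap (algebraMap R S)).primeCompl _ inferInstance
  exact FlatDepth.skLocal_of_ringEquiv (IsLocalization.algEquiv (P.comap (algebraMap R S)).primeCompl
    (Localization.AtPrime (P.comap (algebraMap R S))) (Localization.AtPrime P)).toRingEquiv (h _)

/-- All base changes to finitely generated fields satisfy `(S_n)`. -/
def FieldSk (n : ℕ) (A A' : Type u) [CommRing A] [CommRing A'] [Algebra A A'] : Prop :=
  ∀ (K : Type u) [Field K] [Algebra A K] [Algebra.EssFiniteType A K], LocCoh.HasSk n (K ⊗[A] A') (K ⊗[A] A')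

/-- `(S_n)` formal fibres via a cover. -/
theorem sk_completion_of_cover (n : ℕ) (B₀ B T : Type u) [CommRing B₀] [CommRing B] [IsLocalRing B] [IsNoetherianRing B]
    [CommRing T] [Algebra B₀ B] (q : Ideal B₀) [q.IsPrime] [IsLocalization.AtPrime B q] [Algebra B₀ T]
    [Module.FaithfullyFlat B₀ T] (hT : CAlg.IsGRing T) (h : FieldSk n B₀ T) : EGA4.HasSnFormalFibres n B := by
  obtain ⟨N, hN, alg, htower, hflat, hloc⟩ := GRingCompleteLib.exists_local_cover B₀ B T q
  haveI := hT.1
  haveI := hN
  haveI := hflat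
  haveI := hloc
  let C := Localization.AtPrime N
  haveI : IsNoetherianRing C := IsLocalization.isNoetherianRing N.primeCompl _ inferInstance
  haveI : IsNoetherianRing (EGA4.Cpl C) := RegLocal.isNoetherianRing_completion C _
  haveI : IsNoetherianRing (EGA4.Cpl B) := RegLocal.isNoetherianRing_completion B _
  have h2 : CAlg.IsRegularHom C (EGA4.Cpl C) := hT.2 N
  haveI := h2.1
  haveI : Module.Flat B (EGA4.Cpl C) := Module.Flat.trans B C (EGA4.Cpl C)
  obtain ⟨alg', htower', hff⟩ := GRingCompleteLib.exists_completion_cover B C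
  haveI : Algebra.EssFiniteType B₀ B := Algebra.EssFiniteType.of_isLocalization B q.primeCompl
  have hBC : ∀ (K : Type u) [Field K] [Algebra B K] [Algebra.EssFiniteType B K],
      LocCoh.HasSk n (K ⊗[B] C) (K ⊗[B] C) := by
    intro K _ _ _
    letI : Algebra B₀ K := ((algebraMap B K).comp (algebraMap B₀ B)).toAlgebra
    haveI : IsScalarTower B₀ B K := IsScalarTower.of_algebraMap_eq fun _ => rfl
    haveI : Algebra.EssFiniteType B₀ K := Algebra.EssFiniteType.comp B₀ B K
    haveI : IsNoetherianRing (T ⊗[B₀] K) := Algebra.EssFiniteType.isNoetherianRing T (T ⊗[B₀] K)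
    haveI : IsNoetherianRing (K ⊗[B₀] T) :=
      isNoetherianRing_of_ringEquiv _ (Algebra.TensorProduct.comm B₀ T K).toRingEquiv
    obtain ⟨_, M', hM'⟩ := GRingCompleteLib.exists_tensor_localization B₀ T B C K q.primeCompl N.primeCompl
    haveI := hM'
    exact hasSk_of_isLocalization M' n (h K)
  intro p _
  have h1 : LocCoh.HasSk n (p.Fiber C) (p.Fiber C) := hBC p.ResidueField
  exact FlatDepth.hasSk_of_comp B (EGA4.Cpl B) (EGA4.Cpl C) p n
    (FlatDepth.hasSk_comp B C (EGA4.Cpl C) p n h1 fun P _ =>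
      haveI := FlatDepth.cm_fibres_of_isRegularHom h2 P
      hasSk_of_cm n _)

/-- `(S_n)` formal fibres pass to local algebras essentially of finite type. -/
theorem hasSnFormalFibres_essFiniteType (n : ℕ) (A : Type u) [CommRing A] [IsNoetherianRing A] [IsLocalRing A]
    (B : Type u) [CommRing B] [IsNoetherianRing B] [IsLocalRing B] [Algebra A B] [Algebra.EssFiniteType A B]
    (hA : EGA4.HasSnFormalFibres n A) : EGA4.HasSnFormalFibres n B := by
  obtain ⟨B₀, q, hq, hft, hloc⟩ := GRingCompleteLib.exists_model A B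
  haveI := hq
  haveI := hft
  haveI := hloc
  obtain ⟨_, _, _, _, _⟩ := RatliffLib.compl_facts A
  haveI : Module.FaithfullyFlat A (EGA4.Cpl A) := Module.FaithfullyFlat.of_flat_of_isLocalHom
  refine sk_completion_of_cover n B₀ B _ q (GRingCompleteLib.isGRing_cover A B₀) fun K _ _ _ => ?_
  letI : Algebra A K := ((algebraMap B₀ K).comp (algebraMap A B₀)).toAlgebra
  haveI : IsScalarTower A B₀ K := IsScalarTower.of_algebraMap_eq fun _ => rfl
  haveI : Algebra.EssFiniteType A K := Algebra.EssFiniteType.comp A B₀ K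
  let p := RingHom.ker (algebraMap A K)
  haveI : p.IsPrime := RingHom.ker_isPrime _
  letI : Algebra p.ResidueField K :=
    (Ideal.ResidueField.lift p (algebraMap A K) le_rfl (fun a ha => isUnit_iff_ne_zero.mpr ha)).toAlgebra
  haveI : IsScalarTower A p.ResidueField K := IsScalarTower.of_algebraMap_eq fun a =>
    (Ideal.ResidueField.lift_algebraMap p (algebraMap A K) le_rfl (fun a ha => isUnit_iff_ne_zero.mpr ha) a).symm
  haveI : Algebra.EssFiniteType p.ResidueField K := Algebra.EssFiniteType.of_comp A p.ResidueField K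
  let F := p.Fiber (EGA4.Cpl A)
  haveI : IsNoetherianRing F := FlatDepth.isNoetherianRing_fiber A (EGA4.Cpl A) p
  haveI : IsNoetherianRing (F ⊗[p.ResidueField] K) := Algebra.EssFiniteType.isNoetherianRing F (F ⊗[p.ResidueField] K)
  haveI : IsNoetherianRing (K ⊗[p.ResidueField] F) :=
    isNoetherianRing_of_ringEquiv _ (Algebra.TensorProduct.comm p.ResidueField F K).toRingEquiv
  have h0 : LocCoh.HasSk n (K ⊗[p.ResidueField] F) (K ⊗[p.ResidueField] F) :=
    FlatDepth.hasSk_of_ringEquiv (Algebra.TensorProduct.comm p.ResidueField F K).toRingEquiv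
      (hasSk_field_tensor n p.ResidueField K F (fun _ _ => Or.inr inferInstance) (hA p))
  exact FlatDepth.hasSk_of_ringEquiv
    ((Algebra.TensorProduct.cancelBaseChange A p.ResidueField K K (EGA4.Cpl A)).toRingEquiv.trans
      (Algebra.TensorProduct.cancelBaseChange A B₀ K K (EGA4.Cpl A)).toRingEquiv.symm) h0

/-- A strictly formally catenary local ring has `(S₁)` formal fibres. -/
theorem hasSOne_of_strictly {A : Type u} [CommRing A] [IsNoetherianRing A] [IsLocalRing A]
    (hA : EGA4.IsFormallyStrictlyCatenary A) : EGA4.HasSnFormalFibres 1 A := by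
  intro p _
  obtain ⟨_, _, _, _, -⟩ := RatliffLib.compl_facts A
  haveI : IsLocalRing (A ⧸ p) := IsLocalRing.of_surjective' _ Ideal.Quotient.mk_surjective
  obtain ⟨_, _, _, _, -⟩ := RatliffLib.compl_facts (A ⧸ p)
  obtain ⟨e, -⟩ := CMCat.exists_complQuotEquiv (A := A) p
  let D := EGA4.Cpl A ⧸ p.map (algebraMap A (EGA4.Cpl A))
  haveI : IsNoetherianRing D := isNoetherianRing_of_surjective _ _ _ Ideal.Quotient.mk_surjective
  have hse : EGA4.IsStrictlyEquidim D := RatliffLib.isStrictlyEquidim_of_ringEquiv e.symm (hA p)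
  have h1 : LocCoh.HasSk 1 D D := by
    haveI : IsLocalRing D := e.symm.isLocalRing
    rw [GeomRk.hasSk_one_iff_ass]
    intro P hP
    haveI := hP.isPrime
    obtain ⟨P₀, hP₀, hle⟩ := Ideal.exists_minimalPrimes_le (bot_le : (⊥ : Ideal D) ≤ P)
    haveI := hP₀.1.1
    by_contra hne
    have hne' : P₀ ≠ P := fun h => hne (h ▸ hP₀)
    have h2 := hse P hP
    have h3 := RatliffLib.isEquidim_of_isStrictlyEquidim hse P₀ hP₀
    rw [CatLib.ringKrullDim_quotient_eq_coheight ⟨P, inferInstance⟩] at h2
    rw [CatLib.ringKrullDim_quotient_eq_coheight ⟨P₀, inferInstance⟩] at h3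
    have h4 := Order.coheight_add_one_le (show (⟨P₀, inferInstance⟩ : PrimeSpectrum D) < ⟨P, inferInstance⟩ from
      lt_of_le_of_ne hle fun h => hne' (congrArg PrimeSpectrum.asIdeal h))
    obtain ⟨d, hd⟩ := RegLocal.exists_nat_ringKrullDim D
    have c1 : Order.coheight (⟨P, inferInstance⟩ : PrimeSpectrum D) = (d : ℕ∞) := WithBot.coe_injective (h2.trans hd)
    have c2 : Order.coheight (⟨P₀, inferInstance⟩ : PrimeSpectrum D) = (d : ℕ∞) := WithBot.coe_injective (h3.trans hd)
    rw [c1, c2] at h4
    have h5 : d + 1 ≤ d := by exact_mod_cast h4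
    omega
  let S := Localization (Algebra.algebraMapSubmonoid (EGA4.Cpl A) p.primeCompl)
  haveI : IsNoetherianRing S :=
    IsLocalization.isNoetherianRing (Algebra.algebraMapSubmonoid (EGA4.Cpl A) p.primeCompl) _ inferInstance
  let M' := Algebra.algebraMapSubmonoid (EGA4.Cpl A ⧸ p.map (algebraMap A (EGA4.Cpl A)))
    (Algebra.algebraMapSubmonoid (EGA4.Cpl A) p.primeCompl)
  have h6 : LocCoh.HasSk 1 (S ⧸ (p.map (algebraMap A (EGA4.Cpl A))).map (algebraMap (EGA4.Cpl A) S)) _ :=
    hasSk_of_isLocalization M' 1 h1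
  haveI : IsNoetherianRing (S ⧸ (p.map (algebraMap A (EGA4.Cpl A))).map (algebraMap (EGA4.Cpl A) S)) :=
    isNoetherianRing_of_surjective _ _ _ Ideal.Quotient.mk_surjective
  letI : Algebra (EGA4.Cpl A) (p.Fiber (EGA4.Cpl A)) := Algebra.TensorProduct.rightAlgebra
  exact FlatDepth.hasSk_of_ringEquiv (Ideal.Fiber.algEquivAux₁ p (S := EGA4.Cpl A)).toRingEquiv.symm h6

end Groth.Agent.EGA4Dim
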